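import Cfsg.Agent.Lib.AltSection.Lift

/-!
# The Sylow two-subgroup of the alternating group of degree eight

Two commuting elements generate at most eight elements, so a group whose Sylow two-subgroups have an
abelian subgroup of rank two and index at most four has no section isomorphic to `A₈`.
-/

set_option autoImplicit false
set_option linter.unusedSectionVars false

namespace CfsgLib.AltSection

open Equiv

/-- generators of a Sylow two-subgroup of `A₈` -/
def gen8 : Fin 6 → Perm (Fin 8) :=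
  ![swap 0 1 * swap 2 3, swap 0 2 * swap 1 3, swap 4 5 * swap 6 7, swap 4 6 * swap 5 7, swap 0 1 * swap 4 5,
    swap 0 4 * swap 1 5 * swap 2 6 * swap 3 7]

/-- the elements of a Sylow two-subgroup of `A₈` -/
def elt8 (n : Fin 64) : Perm (Fin 8) :=
  ((List.finRange 6).map fun i => if (n.val / 2 ^ i.val) % 2 = 1 then gen8 i else 1).prod

theorem elt8_inj : ∀ i j : Fin 64, i < j → ∃ x, elt8 i x ≠ elt8 j x := by decide +kernel

theorem elt8_closed : ∀ i : Fin 6, ∀ j : Fin 64, ∃ k : Fin 64, ∀ x, (gen8 i * elt8 j) x = elt8 k x := by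
  decide +kernel

theorem gen8_alt : ∀ i : Fin 6, Perm.sign (gen8 i) = 1 := by decide +kernel

theorem elt8_pairs : ∀ i j : Fin 64, (∀ x, elt8 i (elt8 j x) = elt8 j (elt8 i x)) →
    (∀ x, elt8 i (elt8 i x) = x) ∨ (∀ x, elt8 j (elt8 j x) = x) ∨
      (∀ x, elt8 i (elt8 i x) = elt8 j (elt8 j x)) := by decide +kernel

theorem elt8_four : ∀ i : Fin 64, ∀ x, elt8 i (elt8 i (elt8 i (elt8 i x))) = x := by decide +kernel

/-- a Sylow two-subgroup of `A₈` -/
theorem exists_sylow_alt8 : ∃ Q : Sylow 2 (alternatingGroup (Fin 8)),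
    ∀ x ∈ (Q : Subgroup (alternatingGroup (Fin 8))), ∃ n, (x : Perm (Fin 8)) = elt8 n := by
  classical
  let g : Fin 6 → alternatingGroup (Fin 8) := fun i => ⟨gen8 i, Perm.mem_alternatingGroup.2 (gen8_alt i)⟩
  let V : Subgroup (alternatingGroup (Fin 8)) := Subgroup.closure (Set.range g)
  have hsub : ∀ x ∈ V, ∃ n, (x : Perm (Fin 8)) = elt8 n := by
    intro x hx
    rw [← Subgroup.mem_toSubmonoid, Subgroup.closure_toSubmonoid_of_finite] at hx
    induction hx using Submonoid.closure_induction_left with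
    | one => exact ⟨0, by decide +kernel⟩
    | mul_left y hy z _ ih =>
      obtain ⟨i, rfl⟩ := hy
      obtain ⟨j, hj⟩ := ih
      obtain ⟨k, hk⟩ := elt8_closed i j
      exact ⟨k, by rw [Subgroup.coe_mul, hj]; exact Equiv.ext hk⟩
  have hge : ∀ n, ∃ x ∈ V, (x : Perm (Fin 8)) = elt8 n := by
    intro n
    refine ⟨((List.finRange 6).map fun i => if (n.val / 2 ^ i.val) % 2 = 1 then g i else 1).prod,
      list_prod_mem fun y hy => ?_, ?_⟩
    · obtain ⟨i, -, rfl⟩ := List.mem_map.1 hy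
      split
      · exact Subgroup.subset_closure ⟨i, rfl⟩
      · exact one_mem V
    · rw [elt8, Subgroup.val_list_prod, List.map_map]
      congr 1
      refine List.map_congr_left fun i _ => ?_
      simp only [Function.comp_apply]
      split <;> rfl
  have hinj : Function.Injective elt8 := by
    intro i j h
    rcases lt_trichotomy i j with hl | hl | hl
    · obtain ⟨x, hx⟩ := elt8_inj i j hl; exact absurd (by rw [h]) hx
    · exact hl
    · obtain ⟨x, hx⟩ := elt8_inj j i hl; exact absurd (by rw [h]) hx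
  have hcard : Nat.card V = 64 := by
    choose f hf hf' using hge
    rw [← Nat.card_fin 64]
    refine (Nat.card_eq_of_bijective (fun n => (⟨f n, hf n⟩ : V)) ⟨fun a b h => hinj ?_, fun x => ?_⟩).symm
    · rw [← hf' a, ← hf' b]; exact congrArg Subtype.val (congrArg Subtype.val h :)
    · obtain ⟨n, hn⟩ := hsub x x.2
      exact ⟨n, Subtype.ext (Subtype.ext ((hf' n).trans hn.symm))⟩
  have hc8 : (Nat.card (alternatingGroup (Fin 8))).factorization 2 = 6 := by
    have h : Nat.card (alternatingGroup (Fin 8)) = 2 ^ 6 * 315 := by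
      rw [nat_card_alternatingGroup]; simp [Nat.factorial]
    rw [h, Nat.factorization_mul (by norm_num) (by norm_num), Finsupp.add_apply,
      Nat.Prime.factorization_pow Nat.prime_two, Finsupp.single_eq_same,
      Nat.factorization_eq_zero_of_not_dvd (by norm_num), add_zero]
  haveI : Fact (Nat.Prime 2) := ⟨Nat.prime_two⟩
  exact ⟨Sylow.ofCard V (by rw [hcard, hc8]; norm_num), hsub⟩

theorem card_pair_le {a b : alternatingGroup (Fin 8)} {Q : Subgroup (alternatingGroup (Fin 8))}
    (hQ : ∀ x ∈ Q, ∃ n, (x : Perm (Fin 8)) = elt8 n) (ha : a ∈ Q) (hb : b ∈ Q) (hab : Commute a b) :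
    Nat.card (Subgroup.closure ({a, b} : Set (alternatingGroup (Fin 8)))) ≤ 8 := by
  obtain ⟨i, hi⟩ := hQ a ha
  obtain ⟨j, hj⟩ := hQ b hb
  have ha4 : a ^ 4 = 1 := Subtype.ext (Equiv.ext fun x => by
    rw [SubmonoidClass.coe_pow, hi]; exact elt8_four i x)
  have hb4 : b ^ 4 = 1 := Subtype.ext (Equiv.ext fun x => by
    rw [SubmonoidClass.coe_pow, hj]; exact elt8_four j x)
  have hc : ∀ x, elt8 i (elt8 j x) = elt8 j (elt8 i x) := fun x => by
    have := congrArg (fun w : alternatingGroup (Fin 8) => (w : Perm (Fin 8)) x) hab.eq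
    simpa only [Subgroup.coe_mul, hi, hj, Perm.mul_apply] using this
  -- one of the generators squares into the cyclic group of the other
  have key : ∃ c d : alternatingGroup (Fin 8), c ^ 4 = 1 ∧ (∃ e : ℕ, d ^ 2 = c ^ e) ∧ Commute c d ∧
      Subgroup.closure ({a, b} : Set _) = Subgroup.closure {c, d} := by
    rcases elt8_pairs i j hc with h | h | h
    · exact ⟨b, a, hb4, ⟨0, Subtype.ext (Equiv.ext fun x => by
        rw [SubmonoidClass.coe_pow, hi, pow_zero]; exact h x)⟩, hab.symm, by rw [Set.pair_comm]⟩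
    · exact ⟨a, b, ha4, ⟨0, Subtype.ext (Equiv.ext fun x => by
        rw [SubmonoidClass.coe_pow, hj, pow_zero]; exact h x)⟩, hab, rfl⟩
    · exact ⟨a, b, ha4, ⟨2, Subtype.ext (Equiv.ext fun x => by
        rw [SubmonoidClass.coe_pow, SubmonoidClass.coe_pow, hi, hj]; exact (h x).symm)⟩, hab, rfl⟩
  obtain ⟨c, d, hc4, ⟨e, hde⟩, hcd, heq⟩ := key
  rw [heq]
  let φ : Fin 4 × Fin 2 → alternatingGroup (Fin 8) := fun z => c ^ z.1.val * d ^ z.2.val
  have hm : ∀ n k : ℕ, ∃ z, φ z = c ^ n * d ^ k := by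
    intro n k
    refine ⟨(⟨(n + e * (k / 2)) % 4, Nat.mod_lt _ (by norm_num)⟩, ⟨k % 2, Nat.mod_lt _ (by norm_num)⟩), ?_⟩
    show c ^ ((n + e * (k / 2)) % 4) * d ^ (k % 2) = _
    conv_rhs => rw [← Nat.div_add_mod k 2, pow_add, pow_mul, hde, ← pow_mul, ← mul_assoc, ← pow_add,
      pow_eq_pow_mod _ hc4]
  have hsub : ∀ x ∈ Subgroup.closure ({c, d} : Set _), ∃ n k : ℕ, x = c ^ n * d ^ k := by
    intro x hx
    rw [← Subgroup.mem_toSubmonoid, Subgroup.closure_toSubmonoid_of_finite] at hx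
    induction hx using Submonoid.closure_induction_left with
    | one => exact ⟨0, 0, by simp⟩
    | mul_left y hy z _ ih =>
      obtain ⟨n, k, rfl⟩ := ih
      rcases hy with rfl | rfl
      · exact ⟨n + 1, k, by rw [pow_succ', mul_assoc]⟩
      · exact ⟨n, k + 1, by rw [← mul_assoc, ← (hcd.pow_left n).eq, mul_assoc, ← pow_succ']⟩
  calc Nat.card (Subgroup.closure ({c, d} : Set _)) ≤ (Set.range φ).ncard := by
        rw [← SetLike.coe_sort_coe, Nat.card_coe_set_eq]
        refine Set.ncard_le_ncard ?_ (Set.toFinite _)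
        intro x hx
        obtain ⟨n, k, rfl⟩ := hsub x hx
        exact hm n k
    _ ≤ 8 := by
        rw [← Set.image_univ]
        refine (Set.ncard_image_le (Set.toFinite _)).trans ?_
        simp

/-- Subgroups of a product of two cyclic groups are two-generated. -/
theorem exists_pair_closure_prod {C₁ C₂ : Type*} [CommGroup C₁] [CommGroup C₂] [IsCyclic C₁] [IsCyclic C₂]
    (B : Subgroup (C₁ × C₂)) : ∃ a b : C₁ × C₂, B = Subgroup.closure {a, b} := by
  obtain ⟨u, hu⟩ := IsCyclic.exists_generator (α := ↥(B.map (MonoidHom.snd C₁ C₂)))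
  obtain ⟨b, hb, hbu⟩ := Subgroup.mem_map.1 u.2
  obtain ⟨a, ha⟩ := IsCyclic.exists_generator (α := ↥(B.comap (MonoidHom.inl C₁ C₂)))
  obtain ⟨a₀, ha₀⟩ := a
  refine ⟨MonoidHom.inl C₁ C₂ a₀, b, le_antisymm ?_ ?_⟩
  · intro x hx
    obtain ⟨j, hj⟩ := Subgroup.mem_zpowers_iff.1 (hu ⟨x.2, Subgroup.mem_map.2 ⟨x, hx, rfl⟩⟩)
    have hj1 := congrArg Subtype.val hj
    rw [SubgroupClass.coe_zpow, ← hbu] at hj1
    have hj2 : b.2 ^ j = x.2 := hj1
    have h2 : MonoidHom.inl C₁ C₂ (x * (b ^ j)⁻¹).1 = x * (b ^ j)⁻¹ := by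
      refine Prod.ext rfl ?_
      rw [Prod.snd_mul, Prod.snd_inv, Prod.pow_snd, hj2, mul_inv_cancel]
      rfl
    have h1 : x * (b ^ j)⁻¹ ∈ B := mul_mem hx (inv_mem (zpow_mem hb j))
    obtain ⟨i, hi⟩ := Subgroup.mem_zpowers_iff.1 (ha ⟨(x * (b ^ j)⁻¹).1, Subgroup.mem_comap.2 (by
      rw [h2]; exact h1)⟩)
    have hi1 := congrArg Subtype.val hi
    rw [SubgroupClass.coe_zpow] at hi1
    have hi2 : a₀ ^ i = (x * (b ^ j)⁻¹).1 := hi1
    have hx' : x = MonoidHom.inl C₁ C₂ a₀ ^ i * b ^ j := by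
      rw [← map_zpow, hi2, h2, inv_mul_cancel_right]
    have m1 : MonoidHom.inl C₁ C₂ a₀ ∈ Subgroup.closure ({MonoidHom.inl C₁ C₂ a₀, b} : Set (C₁ × C₂)) :=
      Subgroup.subset_closure (Set.mem_insert _ _)
    have m2 : b ∈ Subgroup.closure ({MonoidHom.inl C₁ C₂ a₀, b} : Set (C₁ × C₂)) :=
      Subgroup.subset_closure (Set.mem_insert_of_mem _ rfl)
    rw [hx']
    exact Subgroup.mul_mem _ (Subgroup.zpow_mem _ m1 i) (Subgroup.zpow_mem _ m2 j)
  · rw [Subgroup.closure_le]
    intro y hy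
    rcases hy with rfl | rfl
    · exact Subgroup.mem_comap.1 ha₀
    · exact hb

/-- Subgroups of an image of a product of two cyclic groups are two-generated. -/
theorem exists_pair_closure {C₁ C₂ G : Type*} [CommGroup C₁] [CommGroup C₂] [IsCyclic C₁] [IsCyclic C₂]
    [Group G] (φ : C₁ × C₂ →* G) {B : Subgroup G} (hB : B ≤ φ.range) :
    ∃ a b : G, B = Subgroup.closure {a, b} := by
  obtain ⟨a, b, h⟩ := exists_pair_closure_prod (B.comap φ)
  exact ⟨φ a, φ b, by rw [← Subgroup.map_comap_eq_self hB, h, MonoidHom.map_closure, Set.image_pair]⟩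

/-- No section `A₈` when the Sylow two-subgroups have an abelian two-generated-in-subgroups subgroup of
index at most four. -/
theorem no_alt_eight {G : Type*} [Group G] [Finite G] (T : Subgroup G) (hT : IsPGroup 2 T)
    (hidx : ¬ 8 * Nat.card T ∣ Nat.card G) (hcomm : ∀ x ∈ T, ∀ y ∈ T, Commute x y)
    (hgen : ∀ B ≤ T, ∃ a b : G, B = Subgroup.closure {a, b})
    (H : Subgroup G) (f : H →* alternatingGroup (Fin 8)) (hf : Function.Surjective f) : False := by
  classical
  haveI : Fact (Nat.Prime 2) := ⟨Nat.prime_two⟩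
  obtain ⟨Q, hQ⟩ := exists_sylow_alt8
  obtain ⟨P, hPQ, -⟩ := exists_lift_sylow hf Q
  obtain ⟨S₁, hS₁⟩ := (P.isPGroup'.map H.subtype).exists_le_sylow
  obtain ⟨S, hS⟩ := hT.exists_le_sylow
  obtain ⟨g, hg⟩ := MulAction.exists_smul_eq G S₁ S
  let ψ : ↥(P : Subgroup H) →* G :=
    (MulAut.conj g).toMonoidHom.comp (H.subtype.comp (P : Subgroup H).subtype)
  have hψ : Function.Injective ψ :=
    (MulAut.conj g).injective.comp (H.subtype_injective.comp (Subgroup.subtype_injective _))
  have hψS : ψ.range ≤ (S : Subgroup G) := by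
    rintro _ ⟨x, rfl⟩
    rw [← hg, Sylow.coe_subgroup_smul]
    exact Subgroup.smul_mem_pointwise_smul _ (MulAut.conj g) _ (hS₁ ⟨_, x.2, rfl⟩)
  let B : Subgroup ↥(P : Subgroup H) := T.comap ψ
  -- the index is at most four
  have hTS : T.relIndex (S : Subgroup G) ≤ 4 := by
    obtain ⟨n, hn⟩ := IsPGroup.iff_card.1 S.isPGroup'
    have h1 := Subgroup.relIndex_mul_relIndex ⊥ T (S : Subgroup G) bot_le hS
    rw [Subgroup.relIndex_bot_left, Subgroup.relIndex_bot_left, hn] at h1
    obtain ⟨j, -, hj⟩ := (Nat.dvd_prime_pow Nat.prime_two).1 (Dvd.intro_left _ h1)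
    by_contra hlt
    have hj3 : 3 ≤ j := by
      by_contra h
      have h' := Nat.pow_le_pow_right (show 0 < 2 by norm_num) (show j ≤ 2 by omega)
      omega
    refine hidx (dvd_trans ?_ (Subgroup.card_subgroup_dvd_card (S : Subgroup G)))
    rw [hn, ← h1, mul_comm (Nat.card T), hj]
    exact Nat.mul_dvd_mul_right (show 2 ^ 3 ∣ 2 ^ j from pow_dvd_pow 2 hj3) _
  have hS0 : T.relIndex (S : Subgroup G) ≠ 0 := (T.subgroupOf (S : Subgroup G)).index_ne_zero_of_finite
  have hB : B.index ≤ 4 := by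
    show (T.comap ψ).index ≤ 4
    rw [Subgroup.index_comap]
    exact (Subgroup.relIndex_le_of_le_right hψS hS0).trans hTS
  obtain ⟨a, b, hab⟩ := hgen (B.map ψ) (Subgroup.map_comap_le _ _)
  obtain ⟨a', ha', ea⟩ : a ∈ B.map ψ := hab ▸ Subgroup.subset_closure (Set.mem_insert _ _)
  obtain ⟨b', hb', eb⟩ : b ∈ B.map ψ := hab ▸ Subgroup.subset_closure (Set.mem_insert_of_mem _ rfl)
  have hBcl : B = Subgroup.closure {a', b'} := by
    refine Subgroup.map_injective hψ ?_
    rw [hab, MonoidHom.map_closure, Set.image_pair, ea, eb]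
  have hcab : Commute a' b' := hψ (by
    rw [map_mul, map_mul]; exact hcomm _ ha' _ hb')
  let φ : ↥(P : Subgroup H) →* alternatingGroup (Fin 8) := f.comp (P : Subgroup H).subtype
  have hφ : φ.range = (Q : Subgroup (alternatingGroup (Fin 8))) := by
    show (f.comp (P : Subgroup H).subtype).range = _
    rw [MonoidHom.range_comp, Subgroup.range_subtype, hPQ]
  have hle := card_pair_le hQ (hφ ▸ ⟨a', rfl⟩ : φ a' ∈ (Q : Subgroup _))
    (hφ ▸ ⟨b', rfl⟩ : φ b' ∈ (Q : Subgroup _)) (hcab.map φ)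
  rw [← Set.image_pair, ← MonoidHom.map_closure, ← hBcl] at hle
  -- the image has order at least sixteen
  have hQ64 : Nat.card (Q : Subgroup (alternatingGroup (Fin 8))) = 64 := by
    rw [Sylow.card_eq_multiplicity, nat_card_alternatingGroup, show Nat.card (Fin 8) = 8 by simp]
    have h : (Nat.factorial 8) / 2 = 2 ^ 6 * 315 := by decide
    rw [h, Nat.factorization_mul (by norm_num) (by norm_num), Finsupp.add_apply,
      Nat.Prime.factorization_pow Nat.prime_two, Finsupp.single_eq_same,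
      Nat.factorization_eq_zero_of_not_dvd (by norm_num), add_zero]
    norm_num
  have h1 := Subgroup.card_mul_index (B.map φ.rangeRestrict)
  have h2 : (B.map φ.rangeRestrict).index ≤ B.index :=
    Nat.le_of_dvd (Nat.pos_of_ne_zero Subgroup.index_ne_zero_of_finite)
      (Subgroup.index_map_dvd B φ.rangeRestrict_surjective)
  have h3 : Nat.card (B.map φ.rangeRestrict) = Nat.card (B.map φ) := by
    rw [← Subgroup.card_map_of_injective (f := φ.range.subtype) φ.range.subtype_injective,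
      Subgroup.map_map]
    rfl
  rw [h3, show Nat.card φ.range = 64 by rw [hφ, hQ64]] at h1
  have h4 : Nat.card (B.map φ) * (B.map φ.rangeRestrict).index ≤ 8 * 4 := Nat.mul_le_mul hle (h2.trans hB)
  omega

end CfsgLib.AltSection
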