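import Cfsg.Agent.Lib.AltSection.Torus

/-!
# An eigenvector for the automizer of a Sylow subgroup of a section

If `G` is a subgroup of a Chevalley group whose Sylow `ℓ`-subgroup is a group of torus elements, then a
section of `G` with a Sylow `ℓ`-subgroup `⟨a⟩` and an element acting on it as the `u`-th power gives a
Weyl element mapping some torus element of order `ℓ` to its `u`-th power.
-/

set_option autoImplicit false
set_option linter.unusedSectionVars false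

namespace CfsgLib.AltSection

open Cfsg.Lie CfsgLib.Chev CfsgLib.ChevField CfsgLib.ChevCent

/-- A number congruent to `u` modulo `ℓ` whose `o`-th power is one modulo `ℓ ^ k`. -/
theorem exists_unit_lift {ℓ u o : ℕ} [Fact ℓ.Prime] (h : u ^ o ≡ 1 [MOD ℓ]) (k : ℕ) :
    ∃ z : ℕ, (z : ZMod ℓ) = u ∧ z ^ o ≡ 1 [MOD ℓ ^ k] := by
  refine ⟨u ^ ℓ ^ k, by rw [Nat.cast_pow, ZMod.pow_card_pow], ?_⟩
  have hd : (ℓ : ℤ) ∣ ((1 : ℕ) : ℤ) - ((u ^ o : ℕ) : ℤ) := Nat.modEq_iff_dvd.1 h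
  have h1 := dvd_sub_pow_of_dvd_sub (p := ℓ) hd k
  have h2 : u ^ o ≡ 1 [MOD ℓ] := h
  rw [← pow_mul, mul_comm, pow_mul]
  refine Nat.ModEq.of_dvd (pow_dvd_pow ℓ (Nat.le_succ k)) ?_
  rw [Nat.modEq_iff_dvd]
  push_cast at h1 ⊢
  simpa using h1

variable {D : ChevalleyDatum} {T : Tabs} {E : Type*} [Field E]

variable (hc : Checked D T) (hcomm : CommOne D T)
include hc hcomm

set_option maxHeartbeats 2000000 in
/-- The eigenvector given by a section. -/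
theorem exists_eigen [Fintype E] {ℓ k : ℕ} [Fact ℓ.Prime] (G : Subgroup (GL D.Idx E)) (hG : G ≤ D.group E)
    (T₀ : Subgroup (Fin D.rank → Eˣ)) (hexp : ∀ y ∈ T₀, y ^ ℓ ^ k = 1)
    (hmem : ∀ y ∈ T₀, torus D T E y ∈ G ∧ torus D T E y ∈ D.diagonalSubgroup E)
    (hidx : ¬ ℓ * Nat.card T₀ ∣ Nat.card G)
    {A : Type*} [Group A] [Finite A] {a t : A} {u : ℕ} (ha : orderOf a = ℓ)
    (hA : ¬ ℓ ^ 2 ∣ Nat.card A) (ht : t * a * t⁻¹ = a ^ u)
    (H : Subgroup ↥G) (f : H →* A) (hf : Function.Surjective f) :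
    ∃ π ∈ weylGrp hc, ∃ y ∈ T₀, y ^ ℓ = 1 ∧ y ≠ 1 ∧ permAct hc π y = y ^ u := by
  classical
  have hr := (Fact.out : ℓ.Prime)
  -- the Sylow subgroup of the section
  have hℓA : (Nat.card A).factorization ℓ = 1 := by
    have h1 : ℓ ∣ Nat.card A := ha ▸ orderOf_dvd_natCard a
    have h0 : Nat.card A ≠ 0 := Nat.card_pos.ne'
    have g1 := (hr.dvd_iff_one_le_factorization h0).1 h1
    have g2 : ¬ 2 ≤ (Nat.card A).factorization ℓ := fun h => hA ((hr.pow_dvd_iff_le_factorization h0).2 h)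
    omega
  let Q : Sylow ℓ A := Sylow.ofCard (Subgroup.zpowers a) (by rw [Nat.card_zpowers, ha, hℓA, pow_one])
  have htn : t ∈ Subgroup.normalizer ((Q : Subgroup A) : Set A) := by
    show t ∈ Subgroup.normalizer ((Subgroup.zpowers a : Subgroup A) : Set A)
    refine Subgroup.mem_normalizer_fintype fun x hx => ?_
    obtain ⟨i, rfl⟩ := Subgroup.mem_zpowers_iff.1 hx
    rw [← conj_zpow, ht]
    exact Subgroup.zpow_mem _ (Subgroup.npow_mem_zpowers a u) i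
  have : Finite ↥G := Finite.of_injective _ Subtype.val_injective
  obtain ⟨P, hPQ, hlift⟩ := exists_lift_sylow hf Q
  obtain ⟨g, hg, hgt⟩ := hlift t htn
  obtain ⟨x, hx, hxa⟩ : a ∈ (P : Subgroup H).map f := hPQ ▸ Subgroup.mem_zpowers a
  -- the torus part is a Sylow subgroup of `G`
  let φ : ↥T₀ →* ↥G := ((torus D T E).comp T₀.subtype).codRestrict G fun y => (hmem y y.2).1
  have hφ : Function.Injective φ := fun y z h =>
    Subtype.ext (torus_injective hc (congrArg Subtype.val h :))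
  have hT : IsPGroup ℓ φ.range := fun z => by
    obtain ⟨y, hy⟩ := z.2
    refine ⟨k, Subtype.ext ?_⟩
    rw [SubmonoidClass.coe_pow, ← hy, ← map_pow, show y ^ ℓ ^ k = 1 from Subtype.ext (hexp y y.2), map_one,
      OneMemClass.coe_one]
  have hTi : ¬ ℓ ∣ φ.range.index := fun h => hidx (by
    rw [Nat.card_congr (MonoidHom.ofInjective hφ).toEquiv, ← Subgroup.card_mul_index φ.range, mul_comm ℓ]
    exact Nat.mul_dvd_mul_left _ h)
  obtain ⟨S, hS⟩ := (P.isPGroup'.map H.subtype).exists_le_sylow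
  obtain ⟨g₀, hg₀⟩ := MulAction.exists_smul_eq ↥G S (hT.toSylow hTi)
  let ι : H → GL D.Idx E := fun z => ((z : ↥G) : GL D.Idx E)
  have ιmul : ∀ z w, ι (z * w) = ι z * ι w := fun _ _ => rfl
  have ιinv : ∀ z, ι z⁻¹ = (ι z)⁻¹ := fun _ => rfl
  have hpar : ∀ p : ↥(P : Subgroup H), ∃ y : ↥T₀,
      (g₀ : GL D.Idx E) * ι p * (g₀ : GL D.Idx E)⁻¹ = torus D T E y := by
    intro p
    have h1 : g₀ * ((p : H) : ↥G) * g₀⁻¹ ∈ (hT.toSylow hTi : Subgroup ↥G) := by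
      rw [← hg₀, Sylow.coe_subgroup_smul]
      exact Subgroup.smul_mem_pointwise_smul _ (MulAut.conj g₀) _ (hS ⟨(p : H), p.2, rfl⟩)
    obtain ⟨y, hy⟩ := h1
    exact ⟨y, (congrArg Subtype.val hy).symm⟩
  choose ψ₀ hψ₀ using hpar
  have ψmul : ∀ p q, ψ₀ (p * q) = ψ₀ p * ψ₀ q := fun p q => Subtype.ext (torus_injective hc (by
    rw [Subgroup.coe_mul, map_mul, ← hψ₀, ← hψ₀, ← hψ₀]
    show _ * ι ((p : H) * (q : H)) * _ = _
    rw [ιmul]; group))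
  let ψ : ↥(P : Subgroup H) →* ↥T₀ := MonoidHom.mk' ψ₀ ψmul
  have hψinj : Function.Injective ψ := fun p q h => by
    have h1 : (g₀ : GL D.Idx E) * ι p * (g₀ : GL D.Idx E)⁻¹ = (g₀ : GL D.Idx E) * ι q * (g₀ : GL D.Idx E)⁻¹ :=
      (hψ₀ p).trans ((congrArg (fun y : ↥T₀ => torus D T E y.1) h).trans (hψ₀ q).symm)
    exact Subtype.ext (Subtype.ext (Subtype.ext (mul_left_cancel (mul_right_cancel h1))))
  -- conjugation by `g`
  have hgP : ∀ p : ↥(P : Subgroup H), g * (p : H) * g⁻¹ ∈ (P : Subgroup H) := fun p =>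
    (Subgroup.mem_normalizer_iff.1 hg p).1 p.2
  set c := (g₀ : GL D.Idx E) * ι g * (g₀ : GL D.Idx E)⁻¹ with hcdef
  let Y : Set (Fin D.rank → Eˣ) := {y | ∃ p, (ψ p : Fin D.rank → Eˣ) = y}
  have hcY : ∀ p, c * torus D T E (ψ p : Fin D.rank → Eˣ) * c⁻¹ =
      torus D T E (ψ ⟨g * (p : H) * g⁻¹, hgP p⟩ : Fin D.rank → Eˣ) := fun p => by
    show c * torus D T E (ψ₀ p : Fin D.rank → Eˣ) * c⁻¹ = torus D T E (ψ₀ ⟨_, hgP p⟩ : Fin D.rank → Eˣ)
    rw [← hψ₀, ← hψ₀, hcdef]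
    show _ = _ * ι (g * (p : H) * g⁻¹) * _
    rw [ιmul, ιmul, ιinv]; group
  let φ' : (Fin D.rank → Eˣ) → (Fin D.rank → Eˣ) := fun y =>
    if hy : ∃ p, (ψ p : Fin D.rank → Eˣ) = y then
      (ψ ⟨g * ((Classical.choose hy : ↥(P : Subgroup H)) : H) * g⁻¹, hgP _⟩ : Fin D.rank → Eˣ) else 1
  have hφ' : ∀ p, φ' (ψ p) = (ψ ⟨g * (p : H) * g⁻¹, hgP p⟩ : Fin D.rank → Eˣ) := fun p => by
    have hy : ∃ q, (ψ q : Fin D.rank → Eˣ) = (ψ p : Fin D.rank → Eˣ) := ⟨p, rfl⟩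
    simp only [φ', dif_pos hy]
    rw [hψinj (Subtype.ext (Classical.choose_spec hy))]
  obtain ⟨L, hL⟩ := reflChars_of_conj hc hcomm Y φ'
    (by rintro y ⟨p, rfl⟩; exact (hmem _ (ψ p).2).2)
    (by rintro y ⟨p, rfl⟩; rw [hφ']; exact (hmem _ (ψ _).2).2)
    (mul_mem (mul_mem (hG g₀.2) (hG (SetLike.coe_mem (g : ↥G)))) (inv_mem (hG g₀.2)))
    (by rintro y ⟨p, rfl⟩; rw [hφ']; exact hcY p)
  set π := permOf hc L.reverse with hπ
  have hπW : π ∈ weylGrp hc := ⟨_, rfl⟩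
  have hact : ∀ (j : ℕ) (p : ↥(P : Subgroup H)), ∃ h : g ^ j * (p : H) * (g ^ j)⁻¹ ∈ (P : Subgroup H),
      permAct hc (π ^ j) (ψ p : Fin D.rank → Eˣ) = (ψ ⟨_, h⟩ : Fin D.rank → Eˣ) := by
    intro j
    induction j with
    | zero =>
      intro p
      refine ⟨by simp, ?_⟩
      rw [pow_zero, permAct_one]
      refine congrArg (fun q : ↥(P : Subgroup H) => (ψ q : Fin D.rank → Eˣ)) (Subtype.ext ?_)
      simp
    | succ j ih =>
      intro p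
      obtain ⟨h, e⟩ := ih p
      refine ⟨?_, ?_⟩
      · rw [pow_succ' g, mul_inv_rev, show g * g ^ j * (p : H) * ((g ^ j)⁻¹ * g⁻¹) =
          g * (g ^ j * (p : H) * (g ^ j)⁻¹) * g⁻¹ by group]
        exact hgP ⟨_, h⟩
      · rw [pow_succ π, permAct_mul hc (pow_mem hπW j), e, hπ, permAct_permOf, List.reverse_reverse,
          hL _ ⟨_, rfl⟩, hφ']
        refine congrArg (fun q : ↥(P : Subgroup H) => (ψ q : Fin D.rank → Eˣ)) (Subtype.ext ?_)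
        show g * (g ^ j * (p : H) * (g ^ j)⁻¹) * g⁻¹ = g ^ (j + 1) * (p : H) * (g ^ (j + 1))⁻¹
        rw [pow_succ' g]; group
  -- split off the part of order prime to `ℓ`
  set s := (orderOf π).factorization ℓ
  set o := orderOf π / ℓ ^ s with ho_def
  have ho0 : orderOf π ≠ 0 := (orderOf_pos π).ne'
  have hoℓ : ¬ ℓ ∣ o := Nat.not_dvd_ordCompl hr ho0
  set π' := π ^ ℓ ^ s with hπ'
  set g' := g ^ ℓ ^ s with hg'
  have hπo : π' ^ o = 1 := by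
    rw [hπ', ← pow_mul, ho_def, Nat.ordProj_mul_ordCompl_eq_self, pow_orderOf_eq_one]
  have hact' : ∀ (j : ℕ) (p : ↥(P : Subgroup H)), ∃ h : g' ^ j * (p : H) * (g' ^ j)⁻¹ ∈ (P : Subgroup H),
      permAct hc (π' ^ j) (ψ p : Fin D.rank → Eˣ) = (ψ ⟨_, h⟩ : Fin D.rank → Eˣ) := fun j p => by
    obtain ⟨h, e⟩ := hact (ℓ ^ s * j) p
    rw [pow_mul, ← hπ'] at e
    refine ⟨by rw [hg', ← pow_mul]; exact h, e.trans ?_⟩
    refine congrArg (fun q : ↥(P : Subgroup H) => (ψ q : Fin D.rank → Eˣ)) (Subtype.ext ?_)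
    show g ^ (ℓ ^ s * j) * (p : H) * (g ^ (ℓ ^ s * j))⁻¹ = g' ^ j * (p : H) * (g' ^ j)⁻¹
    rw [hg', ← pow_mul]
  have hconj : ∀ j : ℕ, f g' ^ j * a * (f g' ^ j)⁻¹ = a ^ u ^ (ℓ ^ s * j) := by
    intro j
    rw [hg', map_pow, hgt, ← pow_mul]
    generalize ℓ ^ s * j = i
    induction i with
    | zero => simp
    | succ i ih =>
      rw [pow_succ' t, mul_inv_rev, show t * t ^ i * a * ((t ^ i)⁻¹ * t⁻¹) = t * (t ^ i * a * (t ^ i)⁻¹) * t⁻¹ by group,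
        ih, ← conj_pow, ht, ← pow_mul, pow_succ']
  let xs : ℕ → ↥(P : Subgroup H) := fun j => ⟨_, (hact' j ⟨x, hx⟩).1⟩
  have hxo : xs o = ⟨x, hx⟩ := hψinj (Subtype.ext (by
    have e := (hact' o ⟨x, hx⟩).2
    rw [hπo, permAct_one] at e
    exact e.symm))
  have hfxs : ∀ j, f (xs j : H) = a ^ u ^ (ℓ ^ s * j) := fun j => by
    show f (g' ^ j * x * (g' ^ j)⁻¹) = _
    rw [map_mul, map_mul, map_inv, map_pow, hxa, hconj]
  have hu : ((u ^ ℓ ^ s : ℕ) : ZMod ℓ) = u := by rw [Nat.cast_pow, ZMod.pow_card_pow]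
  have huo : u ^ o ≡ 1 [MOD ℓ] := by
    have h1 : a ^ u ^ (ℓ ^ s * o) = a := by rw [← hfxs, hxo]; exact hxa
    have h2 := pow_eq_pow_iff_modEq.1 (h1.trans (pow_one a).symm)
    rw [ha, ← ZMod.natCast_eq_natCast_iff] at h2
    rw [← ZMod.natCast_eq_natCast_iff, Nat.cast_pow, ← hu, ← Nat.cast_pow, ← pow_mul]
    exact h2
  obtain ⟨ζ, hζu, hζo⟩ := exists_unit_lift huo k
  -- Horner's rule for the eigenvector
  let z : ℕ → ↥(P : Subgroup H) := fun n => Nat.rec 1 (fun j w => w ^ ζ * xs j) n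
  have hxs_succ : ∀ j, permAct hc π' (ψ (xs j) : Fin D.rank → Eˣ) = (ψ (xs (j + 1)) : Fin D.rank → Eˣ) := by
    intro j
    rw [← (hact' j ⟨x, hx⟩).2, ← permAct_mul hc (pow_mem (pow_mem hπW _) j), ← pow_succ]
    exact (hact' (j + 1) ⟨x, hx⟩).2
  have hstep : ∀ n, permAct hc π' (ψ (z n) : Fin D.rank → Eˣ) * (ψ (xs 0) : Fin D.rank → Eˣ) ^ ζ ^ n =
      (ψ (z n) : Fin D.rank → Eˣ) ^ ζ * (ψ (xs n) : Fin D.rank → Eˣ) := by
    intro n
    induction n with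
    | zero => simp [z]
    | succ n ih =>
      show permAct hc π' ((ψ (z n ^ ζ * xs n) : ↥T₀) : Fin D.rank → Eˣ) * _ = (ψ (z n ^ ζ * xs n) : Fin D.rank → Eˣ) ^ ζ * _
      simp only [map_mul, map_pow, Subgroup.coe_mul, SubmonoidClass.coe_pow, hxs_succ]
      rw [mul_right_comm, pow_succ, pow_mul, ← mul_pow, ih]
  have heig : permAct hc π' (ψ (z o) : Fin D.rank → Eˣ) = (ψ (z o) : Fin D.rank → Eˣ) ^ ζ := by
    have h := hstep o
    have e0 : xs 0 = ⟨x, hx⟩ := Subtype.ext (by simp [xs])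
    rw [e0, hxo] at h
    rw [pow_eq_pow_mod (ζ ^ o) (hexp _ (ψ ⟨x, hx⟩).2)] at h
    conv_rhs at h => rw [← pow_one ((ψ ⟨x, hx⟩ : ↥T₀) : Fin D.rank → Eˣ),
      pow_eq_pow_mod 1 (hexp _ (ψ ⟨x, hx⟩).2)]
    rw [show ζ ^ o % ℓ ^ k = 1 % ℓ ^ k from hζo] at h
    exact mul_right_cancel h
  have hfz : ∀ n, ∃ e : ℕ, f ((P : Subgroup H).subtype (z n)) = a ^ e ∧ (e : ZMod ℓ) * u = n * (u : ZMod ℓ) ^ n := by
    intro n
    induction n with
    | zero => exact ⟨0, by simp [z], by simp⟩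
    | succ n ih =>
      obtain ⟨e, he, hcast⟩ := ih
      refine ⟨e * ζ + u ^ (ℓ ^ s * n), ?_, ?_⟩
      · rw [Subgroup.coe_subtype] at he
        show f (((z n ^ ζ * xs n : ↥(P : Subgroup H)) : H)) = _
        rw [Subgroup.coe_mul, SubmonoidClass.coe_pow, map_mul, map_pow, he, hfxs, ← pow_mul, ← pow_add]
      · push_cast
        rw [pow_mul, ZMod.pow_card_pow, hζu]
        linear_combination (u : ZMod ℓ) * hcast
  obtain ⟨e, he, hcast⟩ := hfz o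
  have hne : z o ≠ 1 := fun h => by
    rw [h, map_one, map_one] at he
    have h1 : (e : ZMod ℓ) = 0 := (ZMod.natCast_eq_zero_iff e ℓ).2 (ha ▸ orderOf_dvd_of_pow_eq_one he.symm)
    rw [h1, zero_mul, ← Nat.cast_pow, (ZMod.natCast_eq_natCast_iff _ 1 ℓ).2 huo, Nat.cast_one, mul_one] at hcast
    exact hoℓ ((ZMod.natCast_eq_zero_iff o ℓ).1 hcast.symm)
  set w := ((ψ (z o) : ↥T₀) : Fin D.rank → Eˣ) with hw_def
  have hw : w ≠ 1 := fun h => hne (hψinj (Subtype.ext (by rw [map_one]; exact h)))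
  obtain ⟨j, -, hj⟩ := (Nat.dvd_prime_pow hr).1 (orderOf_dvd_of_pow_eq_one (hexp w (ψ (z o)).2))
  have hj1 : 1 ≤ j := by
    by_contra h
    exact hw (orderOf_eq_one_iff.1 (by rw [hj, show j = 0 by omega, pow_zero]))
  have hwo : orderOf (w ^ ℓ ^ (j - 1)) = ℓ := by
    rw [orderOf_pow' _ (pow_ne_zero _ hr.ne_zero), hj, Nat.gcd_eq_right (pow_dvd_pow ℓ (by omega)),
      Nat.pow_div (by omega) hr.pos, show j - (j - 1) = 1 by omega, pow_one]
  refine ⟨π', pow_mem hπW _, w ^ ℓ ^ (j - 1), T₀.pow_mem (ψ (z o)).2 _, ?_, ?_, ?_⟩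
  · have := pow_orderOf_eq_one (w ^ ℓ ^ (j - 1))
    rwa [hwo] at this
  · intro h
    rw [h, orderOf_one] at hwo
    exact hr.one_lt.ne hwo
  · rw [map_pow, heig, ← pow_mul, mul_comm, pow_mul]
    refine pow_eq_pow_iff_modEq.2 ?_
    rw [hwo]
    exact (ZMod.natCast_eq_natCast_iff ζ u ℓ).1 hζu

end CfsgLib.AltSection
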