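import Cfsg.Agent.Lib.AltSection.Torus

/-!
# The torus criterion over an extension field

For a prime `ℓ` different from the characteristic the field has an extension with `ℓ ∣ q - 1`; sections
pass to the larger group, so the Weyl group criterion applies to every finite field of such a
characteristic.
-/

set_option autoImplicit false
set_option linter.unusedSectionVars false

universe u

namespace CfsgLib.AltSection

open Cfsg.Lie CfsgLib.Chev CfsgLib.ChevField CfsgLib.ChevCent

variable {D : ChevalleyDatum} {T : Tabs}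

/-- the homomorphism of Chevalley groups given by a field homomorphism -/
noncomputable def groupMap (hc : Checked D T) {F E : Type*} [Field F] [Field E] (ι : F →+* E) :
    ↥(D.group F) →* ↥(D.group E) :=
  ((glMap D ι).comp (D.group F).subtype).codRestrict _ fun g => glMap_group hc ι g.2

theorem groupMap_injective (hc : Checked D T) {F E : Type*} [Field F] [Field E] (ι : F →+* E) :
    Function.Injective (groupMap (D := D) hc ι) := fun _ _ h =>
  Subtype.ext (glMap_injective ι (congrArg Subtype.val h :))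

/-- A finite field has an extension of order congruent to one modulo any other prime. -/
theorem exists_split_ext (hc : Checked D T) {F : Type u} [Field F] [Fintype F] {p : ℕ} [Fact p.Prime]
    [CharP F p] {ℓ : ℕ} [Fact ℓ.Prime] (hℓ : p ≠ ℓ)
    (hdet : ∃ (N : Fin D.rank → Fin D.rank → ℤ) (dd : ℕ), ¬ ℓ ∣ dd ∧
      ∀ i j, ∑ a, N i a * cm D a j = if i = j then (dd : ℤ) else 0)
    (hwsum : ∀ J : List (Fin D.rank), (∀ i, i ∈ J) → ¬ ℓ ∣ wsum hc J 1) :
    ∃ (E : Type) (_ : Field E) (_ : Fintype E) (_ : F →+* E) (k : ℕ), Split hc E ℓ k := by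
  have hr := (Fact.out : ℓ.Prime)
  have : NeZero (ℓ - 1) := ⟨by have := hr.two_le; omega⟩
  let E := FiniteField.Extension F p (ℓ - 1)
  letI : Fintype E := Fintype.ofFinite E
  obtain ⟨f, -, hf⟩ := FiniteField.card F p
  set q := Fintype.card F with hq
  have hE : Fintype.card E = q ^ (ℓ - 1) := by
    rw [← Nat.card_eq_fintype_card, FiniteField.natCard_extension, Nat.card_eq_fintype_card]
  have hq0 : (q : ZMod ℓ) ≠ 0 := fun h => by
    rw [ZMod.natCast_eq_zero_iff, hf] at h
    exact hℓ ((Nat.prime_dvd_prime_iff_eq hr Fact.out).1 (hr.dvd_of_dvd_pow h)).symm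
  have hn0 : q ^ (ℓ - 1) - 1 ≠ 0 := by
    have := Nat.one_lt_pow (show ℓ - 1 ≠ 0 by have := hr.two_le; omega) (hq ▸ Fintype.one_lt_card : 1 < q)
    omega
  have hdvd : ℓ ∣ q ^ (ℓ - 1) - 1 := by
    have h1 : 1 ≤ q ^ (ℓ - 1) := Nat.one_le_pow _ _ (hq ▸ Fintype.card_pos)
    rw [← ZMod.natCast_eq_zero_iff, Nat.cast_sub h1, Nat.cast_pow, ZMod.pow_card_sub_one_eq_one hq0,
      Nat.cast_one, sub_self]
  refine ⟨E, inferInstance, inferInstance, algebraMap F E, (q ^ (ℓ - 1) - 1).factorization ℓ,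
    (hr.dvd_iff_one_le_factorization hn0).1 hdvd, ⟨(q ^ (ℓ - 1) - 1) / ℓ ^ (q ^ (ℓ - 1) - 1).factorization ℓ,
      ?_, Nat.not_dvd_ordCompl hr hn0⟩, hdet, hwsum⟩
  rw [hE, Nat.ordProj_mul_ordCompl_eq_self]

/-- No section with a cyclic Sylow `ℓ`-subgroup whose automizer avoids the Weyl group, in any
characteristic other than `ℓ`. -/
theorem no_section_of_char (hc : Checked D T) (hcomm : CommOne D T) {F : Type u} [Field F] [Fintype F]
    {p : ℕ} [Fact p.Prime] [CharP F p] {ℓ : ℕ} [Fact ℓ.Prime] (hℓ : p ≠ ℓ)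
    (hdet : ∃ (N : Fin D.rank → Fin D.rank → ℤ) (dd : ℕ), ¬ ℓ ∣ dd ∧
      ∀ i j, ∑ a, N i a * cm D a j = if i = j then (dd : ℤ) else 0)
    (hwsum : ∀ J : List (Fin D.rank), (∀ i, i ∈ J) → ¬ ℓ ∣ wsum hc J 1)
    {A : Type*} [Group A] [Finite A] {a t : A} {u' : ℕ} (ha : orderOf a = ℓ)
    (hA : ¬ ℓ ^ 2 ∣ Nat.card A) (ht : t * a * t⁻¹ = a ^ u')
    (hW : ∀ π ∈ weylGrp hc, ¬ u' ^ orderOf π ≡ 1 [MOD ℓ])
    (H : Subgroup ↥(D.group F)) (f : H →* A) (hf : Function.Surjective f) : False := by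
  obtain ⟨E, _, _, ι, k, hS⟩ := exists_split_ext hc hℓ hdet hwsum (F := F)
  let e := H.equivMapOfInjective (groupMap hc ι) (groupMap_injective hc ι)
  exact no_section hc hcomm hS ha hA ht hW (H.map (groupMap hc ι)) (f.comp e.symm.toMonoidHom)
    (hf.comp e.symm.surjective)

end CfsgLib.AltSection
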