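import Mathlib

/-!
# Lifting Sylow subgroups and their normalizers to sections, and sections isomorphic to alternating groups
-/

set_option autoImplicit false
set_option linter.unusedSectionVars false

namespace CfsgLib.AltSection

variable {H A : Type*} [Group H] [Finite H] [Group A] {π : H →* A}

/-- A Sylow subgroup above a given one of a quotient, with surjective normalizers. -/
theorem exists_lift_sylow (hπ : Function.Surjective π) {ℓ : ℕ} [Fact ℓ.Prime] (Q : Sylow ℓ A) :
    ∃ P : Sylow ℓ H, (P : Subgroup H).map π = (Q : Subgroup A) ∧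
      ∀ t ∈ Subgroup.normalizer ((Q : Subgroup A) : Set A),
        ∃ g ∈ Subgroup.normalizer ((P : Subgroup H) : Set H), π g = t := by
  haveI : Finite A := Finite.of_surjective π hπ
  obtain ⟨P₀⟩ : Nonempty (Sylow ℓ H) := inferInstance
  obtain ⟨a, ha⟩ := MulAction.exists_smul_eq A (P₀.mapSurjective hπ) Q
  obtain ⟨h, rfl⟩ := hπ a
  refine ⟨h • P₀, ?_, ?_⟩
  · rw [← ha, Sylow.coe_subgroup_smul, Sylow.coe_subgroup_smul, Sylow.coe_mapSurjective]
    show ((P₀ : Subgroup H).map (MulAut.conj h).toMonoidHom).map π =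
      ((P₀ : Subgroup H).map π).map (MulAut.conj (π h)).toMonoidHom
    rw [Subgroup.map_map, Subgroup.map_map]
    congr 1
    ext x
    simp
  intro t ht
  set P := h • P₀
  have hPQ : (P : Subgroup H).map π = (Q : Subgroup A) := by
    rw [← ha, Sylow.coe_subgroup_smul, Sylow.coe_subgroup_smul, Sylow.coe_mapSurjective]
    show ((P₀ : Subgroup H).map (MulAut.conj h).toMonoidHom).map π =
      ((P₀ : Subgroup H).map π).map (MulAut.conj (π h)).toMonoidHom
    rw [Subgroup.map_map, Subgroup.map_map]
    congr 1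
    ext x
    simp
  set M := (Q : Subgroup A).comap π with hM
  have hPM : (P : Subgroup H) ≤ M := by
    rw [hM, ← hPQ]; exact Subgroup.le_comap_map _ _
  obtain ⟨s, rfl⟩ := hπ t
  have hsM : ((s • P : Sylow ℓ H) : Subgroup H) ≤ M := by
    intro x hx
    rw [Sylow.coe_subgroup_smul] at hx
    obtain ⟨y, hy, rfl⟩ := hx
    show π (s * y * s⁻¹) ∈ (Q : Subgroup A)
    rw [map_mul, map_mul, map_inv]
    exact (Subgroup.mem_normalizer_iff.1 ht _).1 (hPM hy)
  obtain ⟨c, hc⟩ := MulAction.exists_smul_eq M ((s • P).subtype hsM) (P.subtype hPM)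
  have hc' : ((c : H) * s) • P = P := by
    rw [mul_smul]
    exact Sylow.subtype_injective (hP := by
      rw [Sylow.coe_subgroup_smul]
      exact Subgroup.conj_smul_le_of_le hsM c) (hQ := hPM) ((Sylow.smul_subtype (hP := hsM) (h := c)).symm.trans hc)
  obtain ⟨p, hp, hpc⟩ : (π (c : H))⁻¹ ∈ (P : Subgroup H).map π := hPQ ▸ (Q : Subgroup A).inv_mem c.2
  refine ⟨p * ((c : H) * s), ?_, ?_⟩
  · have h1 : (c : H) * s ∈ Subgroup.normalizer ((P : Subgroup H) : Set H) :=
      (Sylow.smul_eq_iff_mem_normalizer (g := (c : H) * s) (P := P)).1 hc'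
    exact Subgroup.mul_mem _ (Subgroup.le_normalizer hp) h1
  · rw [map_mul, map_mul, hpc, inv_mul_cancel_left]

/-- Embedding of alternating groups of smaller degree. -/
noncomputable def altEmb {m r : ℕ} (h : m ≤ r) :
    alternatingGroup (Fin m) →* alternatingGroup (Fin r) :=
  ((Equiv.Perm.viaEmbeddingHom (Fin.castLEEmb h)).comp (alternatingGroup (Fin m)).subtype).codRestrict _
    fun x => by
      simp only [MonoidHom.comp_apply, Subgroup.coe_subtype, Equiv.Perm.viaEmbeddingHom_apply,
        Equiv.Perm.mem_alternatingGroup, Equiv.Perm.viaEmbedding, Equiv.Perm.sign_extendDomain]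
      exact x.2

theorem altEmb_injective {m r : ℕ} (h : m ≤ r) : Function.Injective (altEmb h) := fun a b e =>
  Subtype.ext (Equiv.Perm.viaEmbeddingHom_injective _ (congrArg Subtype.val e))

/-- A group with a quotient alternating of degree `r ≥ m` has a section alternating of degree `m`. -/
theorem exists_alt_section {G : Type*} [Group G] {H : Subgroup G} {K : Subgroup H} [K.Normal] {r m : ℕ}
    (h : Nonempty (H ⧸ K ≃* alternatingGroup (Fin r))) (hm : m ≤ r) :
    ∃ (H₁ : Subgroup G) (π : H₁ →* alternatingGroup (Fin m)), Function.Surjective π := by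
  obtain ⟨e⟩ := h
  let π₀ : H →* alternatingGroup (Fin r) := e.toMonoidHom.comp (QuotientGroup.mk' K)
  have hπ₀ : Function.Surjective π₀ := e.surjective.comp (QuotientGroup.mk'_surjective K)
  set J := (altEmb hm).range
  let P : Subgroup H := J.comap π₀
  refine ⟨P.map H.subtype, ((MonoidHom.ofInjective (altEmb_injective hm)).symm.toMonoidHom.comp
    ((π₀.comp P.subtype).codRestrict J fun x => x.2)).comp
    (P.equivMapOfInjective H.subtype H.subtype_injective).symm.toMonoidHom, ?_⟩
  intro y
  obtain ⟨x, hx⟩ := hπ₀ (altEmb hm y)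
  refine ⟨P.equivMapOfInjective H.subtype H.subtype_injective ⟨x, by
    show π₀ x ∈ J
    exact ⟨y, hx.symm⟩⟩, ?_⟩
  simp only [MonoidHom.comp_apply, MulEquiv.coe_toMonoidHom, MulEquiv.symm_apply_apply]
  rw [MulEquiv.symm_apply_eq]
  exact Subtype.ext hx

end CfsgLib.AltSection
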