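import Cfsg.Agent.Lib.AltSection.RootSums
import Cfsg.Agent.Lib.AltSection.Extend

/-!
# Two commuting cyclic Sylow subgroups of a section and one Weyl element

If a section has commuting elements `a`, `b` of orders `ℓ₁`, `ℓ₂` generating cyclic Sylow subgroups and an
element acting on them as the `u₁`-th and `u₂`-th power, one Weyl element has eigenvalue `u₁` on torus
elements of order `ℓ₁` and `u₂` on torus elements of order `ℓ₂`.
-/

set_option autoImplicit false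
set_option linter.unusedSectionVars false

universe u

namespace CfsgLib.AltSection

open Cfsg.Lie CfsgLib.Chev CfsgLib.ChevField CfsgLib.ChevCent

variable {D : ChevalleyDatum} {T : Tabs} {E : Type*} [Field E]

section

variable (hc : Checked D T)
include hc

/-- A Weyl element of order prime to `ℓ` acting on an `ℓ`-group of parameters with a quotient on which
it is the `u`-th power has an eigenvector of order `ℓ`. -/
theorem eigen_core {ℓ k : ℕ} [Fact ℓ.Prime] {π : Equiv.Perm (Fin D.nroots)} (hπ : π ∈ weylGrp hc)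
    (hπℓ : ¬ ℓ ∣ orderOf π) (M : Subgroup (Fin D.rank → Eˣ)) (hexp : ∀ y ∈ M, y ^ ℓ ^ k = 1)
    (hstab : ∀ y ∈ M, permAct hc π y ∈ M) {A : Type*} [Group A] (θ : ↥M →* A) {u : ℕ}
    (hθ : ∀ y : ↥M, θ ⟨permAct hc π y, hstab y y.2⟩ = θ y ^ u) (y₀ : ↥M) (h₀ : orderOf (θ y₀) = ℓ) :
    ∃ y ∈ M, y ^ ℓ = 1 ∧ y ≠ 1 ∧ permAct hc π y = y ^ u := by
  have hr := (Fact.out : ℓ.Prime)
  set o := orderOf π
  let w : ↥M →* ↥M :=
    { toFun := fun y => ⟨permAct hc π y, hstab y y.2⟩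
      map_one' := Subtype.ext (map_one _)
      map_mul' := fun y z => Subtype.ext (map_mul _ _ _) }
  have hw : ∀ j y, ((w^[j] y : ↥M) : Fin D.rank → Eˣ) = permAct hc (π ^ j) y := by
    intro j
    induction j with
    | zero => intro y; rw [pow_zero, permAct_one]; rfl
    | succ j ih =>
      intro y
      rw [Function.iterate_succ_apply', pow_succ, permAct_mul hc (pow_mem hπ j), ← ih]
      rfl
  have hwo : ∀ y, w^[o] y = y := fun y => Subtype.ext (by rw [hw, pow_orderOf_eq_one, permAct_one])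
  set a := θ y₀ with ha
  have hθw : ∀ j, θ (w^[j] y₀) = a ^ u ^ j := by
    intro j
    induction j with
    | zero => simp [ha]
    | succ j ih => rw [Function.iterate_succ_apply', show θ (w _) = _ from hθ _, ih, ← pow_mul, pow_succ]
  have huo : u ^ o ≡ 1 [MOD ℓ] := by
    have h := hθw o
    rw [hwo, ← pow_one (θ y₀)] at h
    have h2 := pow_eq_pow_iff_modEq.1 h.symm
    rwa [h₀] at h2
  obtain ⟨ζ, hζu, hζo⟩ := exists_unit_lift huo k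
  let z : ℕ → ↥M := fun n => Nat.rec 1 (fun j v => v ^ ζ * w^[j] y₀) n
  have hstep : ∀ n, w (z n) * y₀ ^ ζ ^ n = z n ^ ζ * w^[n] y₀ := by
    intro n
    induction n with
    | zero => simp [z]
    | succ n ih =>
      show w (z n ^ ζ * w^[n] y₀) * _ = (z n ^ ζ * w^[n] y₀) ^ ζ * _
      rw [map_mul, map_pow, Function.iterate_succ_apply', mul_right_comm, pow_succ, pow_mul, ← mul_pow, ih]
  have hexp' : ∀ y : ↥M, y ^ ℓ ^ k = 1 := fun y => Subtype.ext (hexp y y.2)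
  have heig : w (z o) = z o ^ ζ := by
    have h := hstep o
    rw [hwo] at h
    rw [pow_eq_pow_mod (ζ ^ o) (hexp' y₀)] at h
    conv_rhs at h => rw [← pow_one y₀, pow_eq_pow_mod 1 (hexp' y₀)]
    rw [show ζ ^ o % ℓ ^ k = 1 % ℓ ^ k from hζo] at h
    exact mul_right_cancel h
  have hfz : ∀ n, ∃ e : ℕ, θ (z n) = a ^ e ∧ (e : ZMod ℓ) * u = n * (u : ZMod ℓ) ^ n := by
    intro n
    induction n with
    | zero => exact ⟨0, by simp [z], by simp⟩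
    | succ n ih =>
      obtain ⟨e, he, hcast⟩ := ih
      refine ⟨e * ζ + u ^ n, ?_, ?_⟩
      · show θ (z n ^ ζ * w^[n] y₀) = _
        rw [map_mul, map_pow, he, hθw, ← pow_mul, ← pow_add]
      · push_cast
        rw [hζu]
        linear_combination (u : ZMod ℓ) * hcast
  obtain ⟨e, he, hcast⟩ := hfz o
  have hne : z o ≠ 1 := fun h => by
    rw [h, map_one] at he
    have h1 : (e : ZMod ℓ) = 0 := (ZMod.natCast_eq_zero_iff e ℓ).2 (h₀ ▸ orderOf_dvd_of_pow_eq_one he.symm)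
    rw [h1, zero_mul, ← Nat.cast_pow, (ZMod.natCast_eq_natCast_iff _ 1 ℓ).2 huo, Nat.cast_one, mul_one] at hcast
    exact hπℓ ((ZMod.natCast_eq_zero_iff o ℓ).1 hcast.symm)
  obtain ⟨j, -, hj⟩ := (Nat.dvd_prime_pow hr).1 (orderOf_dvd_of_pow_eq_one (hexp' (z o)))
  have hj1 : 1 ≤ j := by
    by_contra h
    exact hne (orderOf_eq_one_iff.1 (by rw [hj, show j = 0 by omega, pow_zero]))
  set y := z o ^ ℓ ^ (j - 1) with hy
  have hyo : orderOf y = ℓ := by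
    rw [hy, orderOf_pow' _ (pow_ne_zero _ hr.ne_zero), hj, Nat.gcd_eq_right (pow_dvd_pow ℓ (by omega)),
      Nat.pow_div (by omega) hr.pos, show j - (j - 1) = 1 by omega, pow_one]
  refine ⟨y, y.2, ?_, fun h => ?_, ?_⟩
  · have := pow_orderOf_eq_one y
    rw [hyo] at this
    exact congrArg Subtype.val this
  · have h1 : y = 1 := Subtype.ext h
    rw [h1, orderOf_one] at hyo
    exact hr.one_lt.ne hyo
  · have h1 : w y = y ^ u := by
      rw [hy, map_pow, heig, ← pow_mul, mul_comm, pow_mul]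
      refine pow_eq_pow_iff_modEq.2 ?_
      rw [hyo]
      exact (ZMod.natCast_eq_natCast_iff ζ u ℓ).1 hζu
    exact congrArg Subtype.val h1

/-- The root values of an eigenvector are multiplied by the eigenvalue. -/
theorem rootForm_eigen {ℓ : ℕ} [Fact ℓ.Prime] {π : Equiv.Perm (Fin D.nroots)} (hπ : π ∈ weylGrp hc)
    {η : Eˣ} (hη : orderOf η = ℓ) {y : Fin D.rank → Eˣ} {e : Fin D.rank → ZMod ℓ}
    (he : ∀ i, y i = η ^ (e i).val) {v : ℕ} (hw : permAct hc π y = y ^ v) (j : Fin D.rank) :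
    rootForm D T e (π ⟨D.simple j.val, simple_lt hc j.2⟩) = (v : ZMod ℓ) * e j := by
  have h := chi_permAct hc hπ y ⟨D.simple j.val, simple_lt hc j.2⟩
  rw [hw, chi_pow'] at h
  change chi y (rv D T (D.simple j.val)) ^ v = _ at h
  rw [rv_simple hc, chi_single, zpow_one, he, chi_exponents hc hη he, ← pow_mul] at h
  have h2 := pow_eq_pow_iff_modEq.1 h
  rw [hη, ← ZMod.natCast_eq_natCast_iff] at h2
  push_cast at h2
  rw [ZMod.natCast_rightInverse, ZMod.natCast_rightInverse] at h2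
  rw [← h2, mul_comm]

end

section

variable (hc : Checked D T) (hcomm : CommOne D T)
include hc hcomm

/-- The torus part of the split torus with exponent `ℓ ^ k`. -/
theorem split_torus_spec [Fintype E] {ℓ k : ℕ} [Fact ℓ.Prime] (hS : Split hc E ℓ k) :
    (∀ y ∈ (powMonoidHom (ℓ ^ k) : (Fin D.rank → Eˣ) →* _).ker, y ^ ℓ ^ k = 1) ∧
    (∀ y ∈ (powMonoidHom (ℓ ^ k) : (Fin D.rank → Eˣ) →* _).ker,
      torus D T E y ∈ D.group E ∧ torus D T E y ∈ D.diagonalSubgroup E) ∧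
    ¬ ℓ * Nat.card ↥(powMonoidHom (ℓ ^ k) : (Fin D.rank → Eˣ) →* _).ker ∣ Nat.card ↥(D.group E) := by
  classical
  have hr := (Fact.out : ℓ.Prime)
  obtain ⟨e, hm, he⟩ := hS.card
  refine ⟨fun y hy => hy, fun y hy => ⟨diagonal_le_group hc (torus_diag hc hcomm hS hy),
    torus_diag hc hcomm hS hy⟩, ?_⟩
  set S : Subgroup (Fin D.rank → Eˣ) := (powMonoidHom (ℓ ^ k)).ker
  have hcardU : Nat.card Eˣ = ℓ ^ k * e := by
    rw [Nat.card_units, Nat.card_eq_fintype_card, hm]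
  have hcardS : Nat.card ↥S = (ℓ ^ k) ^ D.rank := by
    let M0 : Subgroup Eˣ := (powMonoidHom (ℓ ^ k)).ker
    let eqv : ↥S ≃ (Fin D.rank → ↥M0) :=
      { toFun := fun x i => ⟨x.1 i, congrFun x.2 i⟩
        invFun := fun f => ⟨fun i => (f i).1, funext fun i => (f i).2⟩
        left_inv := fun _ => rfl
        right_inv := fun _ => rfl }
    rw [Nat.card_congr eqv, Nat.card_fun, Nat.card_fin]
    congr 1
    rw [IsCyclic.card_powMonoidHom_ker, hcardU, Nat.gcd_comm, Nat.gcd_eq_left (dvd_mul_right _ e)]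
  have hH : Nat.card ↥(D.diagonalSubgroup E) ∣ (ℓ ^ k * e) ^ D.rank := by
    rw [diagonalSubgroup_eq hc, ← hcardU]
    refine (Subgroup.card_range_dvd _).trans ?_
    rw [Nat.card_fun, Nat.card_fin]
  have hJ : ∀ i, i ∈ List.finRange D.rank := List.mem_finRange
  intro h
  rw [hcardS, card_group hc (F := E) hcomm hJ] at h
  set Q := Fintype.card E
  have h2 : ℓ ∣ Q ^ (D.nroots / 2) * e ^ D.rank * wsum hc (List.finRange D.rank) Q := by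
    refine (Nat.mul_dvd_mul_iff_left (pow_pos (pow_pos hr.pos k) D.rank)).1 ?_
    rw [mul_comm ((ℓ ^ k) ^ D.rank) ℓ]
    refine h.trans ((Nat.mul_dvd_mul (Nat.mul_dvd_mul_left _ hH) dvd_rfl).trans (dvd_of_eq ?_))
    rw [mul_pow]; ring
  have hQ1 : ((Q : ℕ) : ZMod ℓ) = 1 := by
    have h3 : Q = ℓ * (ℓ ^ (k - 1) * e) + 1 := by
      have : 0 < Q := Fintype.card_pos
      rw [← mul_assoc, ← pow_succ', show k - 1 + 1 = k by have := hS.pos; omega, ← hm]; omega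
    rw [h3]; simp
  rcases hr.dvd_mul.1 h2 with h2 | h2
  · rcases hr.dvd_mul.1 h2 with h2 | h2
    · have h4 : ((Q : ℕ) : ZMod ℓ) = 0 := (ZMod.natCast_eq_zero_iff _ ℓ).2 (hr.dvd_of_dvd_pow h2)
      rw [hQ1] at h4
      exact one_ne_zero h4
    · exact he (hr.dvd_of_dvd_pow h2)
  · refine hS.weyl _ hJ ((ZMod.natCast_eq_zero_iff _ ℓ).1 ?_)
    have h4 : ((wsum hc (List.finRange D.rank) Q : ℕ) : ZMod ℓ) =
        ((wsum hc (List.finRange D.rank) 1 : ℕ) : ZMod ℓ) := by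
      simp only [wsum, Nat.cast_sum, Nat.cast_pow, hQ1, Nat.cast_one]
    rw [← h4, ZMod.natCast_eq_zero_iff]; exact h2

set_option maxHeartbeats 2000000 in
/-- Two eigenvectors of one Weyl element given by a section. -/
theorem exists_eigen_pair [Fintype E] {ℓ₁ ℓ₂ k₁ k₂ : ℕ} [Fact ℓ₁.Prime] [Fact ℓ₂.Prime]
    (G : Subgroup (GL D.Idx E)) (hG : G ≤ D.group E)
    (T₁ T₂ : Subgroup (Fin D.rank → Eˣ)) (hexp₁ : ∀ y ∈ T₁, y ^ ℓ₁ ^ k₁ = 1) (hexp₂ : ∀ y ∈ T₂, y ^ ℓ₂ ^ k₂ = 1)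
    (hmem₁ : ∀ y ∈ T₁, torus D T E y ∈ G ∧ torus D T E y ∈ D.diagonalSubgroup E)
    (hmem₂ : ∀ y ∈ T₂, torus D T E y ∈ G ∧ torus D T E y ∈ D.diagonalSubgroup E)
    (hidx₁ : ¬ ℓ₁ * Nat.card T₁ ∣ Nat.card G) (hidx₂ : ¬ ℓ₂ * Nat.card T₂ ∣ Nat.card G)
    (hW : ∀ π ∈ weylGrp hc, ¬ ℓ₁ ∣ orderOf π ∧ ¬ ℓ₂ ∣ orderOf π)
    {A : Type*} [Group A] [Finite A] {a b t : A} {u₁ u₂ : ℕ} (ha : orderOf a = ℓ₁) (hb : orderOf b = ℓ₂)
    (hA₁ : ¬ ℓ₁ ^ 2 ∣ Nat.card A)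
    (hA₂ : ¬ ℓ₂ ^ 2 ∣ Nat.card (Subgroup.normalizer ((Subgroup.zpowers a : Subgroup A) : Set A))) (hab : Commute a b)
    (hta : t * a * t⁻¹ = a ^ u₁) (htb : t * b * t⁻¹ = b ^ u₂)
    (H : Subgroup ↥G) (f : H →* A) (hf : Function.Surjective f) :
    ∃ π ∈ weylGrp hc, (∃ y ∈ T₁, y ^ ℓ₁ = 1 ∧ y ≠ 1 ∧ permAct hc π y = y ^ u₁) ∧
      ∃ y ∈ T₂, y ^ ℓ₂ = 1 ∧ y ≠ 1 ∧ permAct hc π y = y ^ u₂ := by
  classical
  have hr₁ := (Fact.out : ℓ₁.Prime)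
  have hr₂ := (Fact.out : ℓ₂.Prime)
  have : Finite ↥G := Finite.of_injective _ Subtype.val_injective
  -- cyclic Sylow subgroups of the section
  have hfact : ∀ {ℓ : ℕ} [Fact ℓ.Prime] {x : A}, orderOf x = ℓ → ¬ ℓ ^ 2 ∣ Nat.card A →
      (Nat.card A).factorization ℓ = 1 := by
    intro ℓ hℓ x hx h2
    have hr := (Fact.out : ℓ.Prime)
    have h1 : ℓ ∣ Nat.card A := hx ▸ orderOf_dvd_natCard x
    have h0 : Nat.card A ≠ 0 := Nat.card_pos.ne'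
    have g1 := (hr.dvd_iff_one_le_factorization h0).1 h1
    have g2 : ¬ 2 ≤ (Nat.card A).factorization ℓ := fun h => h2 ((hr.pow_dvd_iff_le_factorization h0).2 h)
    omega
  let Qa : Sylow ℓ₁ A := Sylow.ofCard (Subgroup.zpowers a) (by rw [Nat.card_zpowers, ha, hfact ha hA₁, pow_one])
  have hnorm : ∀ x c : A, (∃ i : ℤ, c * x * c⁻¹ = x ^ i) →
      c ∈ Subgroup.normalizer ((Subgroup.zpowers x : Subgroup A) : Set A) := by
    rintro x c ⟨i, hi⟩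
    refine Subgroup.mem_normalizer_fintype fun z hz => ?_
    obtain ⟨j, rfl⟩ := Subgroup.mem_zpowers_iff.1 hz
    rw [← conj_zpow, hi, ← zpow_mul]
    exact Subgroup.zpow_mem_zpowers x _
  have hcab : ∀ x y : A, Commute x y → x * y * x⁻¹ = y ^ (1 : ℤ) := fun x y h => by
    rw [h.eq, mul_inv_cancel_right, zpow_one]
  set NA : Subgroup A := Subgroup.normalizer ((Subgroup.zpowers a : Subgroup A) : Set A) ⊓
    Subgroup.normalizer ((Subgroup.zpowers b : Subgroup A) : Set A) with hNA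
  have htNA : t ∈ NA := Subgroup.mem_inf.2
    ⟨hnorm a t ⟨(u₁ : ℤ), by rw [zpow_natCast, hta]⟩, hnorm b t ⟨(u₂ : ℤ), by rw [zpow_natCast, htb]⟩⟩
  have hbNA : b ∈ NA := Subgroup.mem_inf.2 ⟨hnorm a b ⟨1, hcab b a hab.symm⟩, hnorm b b ⟨1, hcab b b rfl⟩⟩
  obtain ⟨P, hPQ, hlift⟩ := exists_lift_sylow hf Qa
  -- the preimage of the common normalizer
  set K : Subgroup H := Subgroup.normalizer ((P : Subgroup H) : Set H) ⊓ NA.comap f with hK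
  let fK : K →* NA := (f.comp K.subtype).codRestrict NA fun x => x.2.2
  have hfK : Function.Surjective fK := fun y => by
    obtain ⟨g, hg, hgy⟩ := hlift y.1 y.2.1
    exact ⟨⟨g, Subgroup.mem_inf.2 ⟨hg, Subgroup.mem_comap.2 (by rw [hgy]; exact y.2)⟩⟩, Subtype.ext hgy⟩
  let b' : NA := ⟨b, hbNA⟩
  have hb' : orderOf b' = ℓ₂ := by rw [← hb]; exact (orderOf_injective NA.subtype NA.subtype_injective b').symm
  have hfb : (Nat.card NA).factorization ℓ₂ = 1 := by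
    have h1 : ℓ₂ ∣ Nat.card NA := hb' ▸ orderOf_dvd_natCard b'
    have g1 := (hr₂.dvd_iff_one_le_factorization Nat.card_pos.ne').1 h1
    have g2 : ¬ 2 ≤ (Nat.card NA).factorization ℓ₂ := fun h => hA₂
      (((hr₂.pow_dvd_iff_le_factorization Nat.card_pos.ne').2 h).trans (Subgroup.card_dvd_of_le inf_le_left))
    omega
  let Qb : Sylow ℓ₂ NA := Sylow.ofCard (Subgroup.zpowers b') (by rw [Nat.card_zpowers, hb', hfb, pow_one])
  have htn : (⟨t, htNA⟩ : NA) ∈ Subgroup.normalizer ((Qb : Subgroup NA) : Set NA) := by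
    show _ ∈ Subgroup.normalizer ((Subgroup.zpowers b' : Subgroup NA) : Set NA)
    refine Subgroup.mem_normalizer_fintype fun z hz => ?_
    obtain ⟨j, rfl⟩ := Subgroup.mem_zpowers_iff.1 hz
    have e : (⟨t, htNA⟩ : NA) * b' * (⟨t, htNA⟩ : NA)⁻¹ = b' ^ u₂ := Subtype.ext htb
    rw [← conj_zpow, e]
    exact Subgroup.zpow_mem _ (Subgroup.npow_mem_zpowers b' u₂) j
  obtain ⟨R, hRQ, hliftR⟩ := exists_lift_sylow hfK Qb
  obtain ⟨g, hgR, hgt⟩ := hliftR _ htn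
  have hgt' : f (g : H) = t := congrArg Subtype.val hgt
  have hgP : (g : H) ∈ Subgroup.normalizer ((P : Subgroup H) : Set H) := g.2.1
  obtain ⟨x, hx, hxa⟩ : a ∈ (P : Subgroup H).map f := hPQ ▸ Subgroup.mem_zpowers a
  obtain ⟨z, hz, hzb⟩ : b' ∈ (R : Subgroup K).map fK := hRQ ▸ Subgroup.mem_zpowers b'
  have hzb' : f (z : H) = b := congrArg Subtype.val hzb
  -- the torus parts are Sylow subgroups
  have htor : ∀ {ℓ k : ℕ} [Fact ℓ.Prime] (T₀ : Subgroup (Fin D.rank → Eˣ)),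
      (∀ y ∈ T₀, y ^ ℓ ^ k = 1) → (∀ y ∈ T₀, torus D T E y ∈ G) → ¬ ℓ * Nat.card T₀ ∣ Nat.card G →
      ∀ (C : Subgroup ↥G) (S : Subgroup ↥G), S ≤ C → IsPGroup ℓ S →
        (∀ y, ∀ hy : y ∈ G, (∃ y' ∈ T₀, y = torus D T E y') → (⟨y, hy⟩ : ↥G) ∈ C) →
        ∃ c ∈ C, ∀ s ∈ S, ∃ y ∈ T₀, (c : GL D.Idx E) * (s : GL D.Idx E) * (c : GL D.Idx E)⁻¹ = torus D T E y := by
    intro ℓ k hℓ T₀ he hm hi C S hSC hSp hTC
    let φ : ↥T₀ →* ↥C := (((torus D T E).comp T₀.subtype).codRestrict G fun y => hm y y.2).codRestrict C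
      fun y => hTC _ _ ⟨y, y.2, rfl⟩
    have hφ : Function.Injective φ := fun y y' h =>
      Subtype.ext (torus_injective hc (congrArg Subtype.val (congrArg Subtype.val h :) :))
    have hT : IsPGroup ℓ φ.range := fun v => by
      obtain ⟨y, hy⟩ := v.2
      refine ⟨k, Subtype.ext ?_⟩
      rw [SubmonoidClass.coe_pow, ← hy, ← map_pow, show y ^ ℓ ^ k = 1 from Subtype.ext (he y y.2), map_one,
        OneMemClass.coe_one]
    have hTi : ¬ ℓ ∣ φ.range.index := fun h => hi (by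
      refine dvd_trans ?_ (Subgroup.card_subgroup_dvd_card C)
      rw [Nat.card_congr (MonoidHom.ofInjective hφ).toEquiv, ← Subgroup.card_mul_index φ.range, mul_comm ℓ]
      exact Nat.mul_dvd_mul_left _ h)
    obtain ⟨S', hS'⟩ := (hSp.of_equiv (Subgroup.subgroupOfEquivOfLe hSC).symm).exists_le_sylow
    obtain ⟨c, hc'⟩ := MulAction.exists_smul_eq ↥C S' (hT.toSylow hTi)
    refine ⟨c, c.2, fun s hs => ?_⟩
    have h1 : c * ⟨s, hSC hs⟩ * c⁻¹ ∈ (hT.toSylow hTi : Subgroup ↥C) := by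
      rw [← hc', Sylow.coe_subgroup_smul]
      exact Subgroup.smul_mem_pointwise_smul _ (MulAut.conj c) _ (hS' (Subgroup.mem_subgroupOf.2 hs))
    obtain ⟨y, hy⟩ := h1
    exact ⟨y, y.2, (congrArg Subtype.val (congrArg Subtype.val hy :) :).symm⟩
  obtain ⟨g₀, -, hg₀⟩ := htor T₁ hexp₁ (fun y hy => (hmem₁ y hy).1) hidx₁ ⊤ ((P : Subgroup H).map H.subtype)
    le_top (P.isPGroup'.map _) (fun _ _ _ => Subgroup.mem_top _)
  let ι : H → GL D.Idx E := fun v => ((v : ↥G) : GL D.Idx E)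
  have ιmul : ∀ v w, ι (v * w) = ι v * ι w := fun _ _ => rfl
  have ιinv : ∀ v, ι v⁻¹ = (ι v)⁻¹ := fun _ => rfl
  have ιpow : ∀ v (n : ℕ), ι (v ^ n) = ι v ^ n := fun _ _ => rfl
  -- Weyl elements for elements normalizing sets of torus elements
  have weyl : ∀ (d : ↥G) (Y : Set (Fin D.rank → Eˣ)), (∀ y ∈ Y, torus D T E y ∈ D.diagonalSubgroup E) →
      (∀ y ∈ Y, ∃ y' ∈ Y, (d : GL D.Idx E) * torus D T E y * (d : GL D.Idx E)⁻¹ = torus D T E y') →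
      ∃ π ∈ weylGrp hc, ∀ j : ℕ, ∀ y ∈ Y, permAct hc (π ^ j) y ∈ Y ∧
        (d : GL D.Idx E) ^ j * torus D T E y * ((d : GL D.Idx E) ^ j)⁻¹ = torus D T E (permAct hc (π ^ j) y) := by
    intro d Y hYd hY
    choose φ hφ hφc using hY
    let φ' : (Fin D.rank → Eˣ) → (Fin D.rank → Eˣ) := fun y => if hy : y ∈ Y then φ y hy else 1
    obtain ⟨L, hL⟩ := reflChars_of_conj hc hcomm Y φ' hYd
      (fun y hy => by simp only [φ', dif_pos hy]; exact hYd _ (hφ y hy))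
      (hG d.2) (fun y hy => by simp only [φ', dif_pos hy]; exact hφc y hy)
    refine ⟨permOf hc L.reverse, ⟨_, rfl⟩, fun j => ?_⟩
    induction j with
    | zero => intro y hy; simp [permAct_one, hy]
    | succ j ih =>
      intro y hy
      obtain ⟨h1, h2⟩ := ih y hy
      rw [pow_succ (permOf hc L.reverse), permAct_mul hc (pow_mem (show permOf hc L.reverse ∈ weylGrp hc from ⟨_, rfl⟩) j),
        permAct_permOf, List.reverse_reverse, hL _ h1]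
      simp only [φ', dif_pos h1]
      refine ⟨hφ _ h1, ?_⟩
      rw [← hφc _ h1, ← h2, pow_succ']
      group
  let Y₁ : Set (Fin D.rank → Eˣ) := {y | y ∈ T₁ ∧ ∃ p ∈ (P : Subgroup H), (g₀ : GL D.Idx E) * ι p * (g₀ : GL D.Idx E)⁻¹ = torus D T E y}
  have hY₁ : ∀ p ∈ (P : Subgroup H), ∃ y ∈ Y₁, (g₀ : GL D.Idx E) * ι p * (g₀ : GL D.Idx E)⁻¹ = torus D T E y := by
    intro p hp
    obtain ⟨y, hy, e⟩ := hg₀ _ ⟨p, hp, rfl⟩
    exact ⟨y, ⟨hy, p, hp, e⟩, e⟩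
  -- the second group centralises the first
  have hcent : ∀ r ∈ (R : Subgroup K), ∀ p ∈ (P : Subgroup H), (r : H) * p * (r : H)⁻¹ = p := by
    intro r hr' p hp
    obtain ⟨π, hπ, hπj⟩ := weyl (g₀ * ((r : H) : ↥G) * g₀⁻¹) Y₁ (fun y hy => (hmem₁ y hy.1).2) (by
      rintro y ⟨-, p', hp', e⟩
      obtain ⟨y', hy', e'⟩ := hY₁ ((r : H) * p' * (r : H)⁻¹) ((Subgroup.mem_normalizer_iff.1 r.2.1 p').1 hp')
      refine ⟨y', hy', ?_⟩
      rw [← e', ← e]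
      show ((g₀ : GL D.Idx E) * ι (r : H) * (g₀ : GL D.Idx E)⁻¹) * _ * ((g₀ : GL D.Idx E) * ι (r : H) * (g₀ : GL D.Idx E)⁻¹)⁻¹ = _
      rw [ιmul, ιmul, ιinv]; group)
    obtain ⟨m, hm⟩ := R.isPGroup' ⟨r, hr'⟩
    have hm' : (r : H) ^ ℓ₂ ^ m = 1 := by
      have := congrArg Subtype.val (congrArg Subtype.val hm :)
      simpa using this
    obtain ⟨y, hy, e⟩ := hY₁ p hp
    obtain ⟨N', hN'⟩ : ∃ N', π ^ (ℓ₂ ^ m * N') = π := by
      obtain ⟨N', hN'⟩ := exists_pow_eq_self_of_coprime (x := π) (n := ℓ₂ ^ m)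
        ((hr₂.coprime_iff_not_dvd.2 (hW π hπ).2).pow_left m)
      exact ⟨N', by rw [pow_mul]; exact hN'⟩
    have h1 := (hπj (ℓ₂ ^ m * N') y hy).2
    rw [hN'] at h1
    have h1' := (hπj 1 y hy).2
    rw [pow_one, pow_one, ← h1] at h1'
    have hd : ((g₀ * ((r : H) : ↥G) * g₀⁻¹ : ↥G) : GL D.Idx E) ^ (ℓ₂ ^ m * N') = 1 := by
      show ((g₀ : GL D.Idx E) * ι (r : H) * (g₀ : GL D.Idx E)⁻¹) ^ _ = 1
      rw [conj_pow, ← ιpow, pow_mul, hm', one_pow]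
      show _ * 1 * _ = 1
      group
    rw [hd, one_mul, inv_one, mul_one, ← e] at h1'
    change ((g₀ : GL D.Idx E) * ι (r : H) * (g₀ : GL D.Idx E)⁻¹) * ((g₀ : GL D.Idx E) * ι p * (g₀ : GL D.Idx E)⁻¹) *
      ((g₀ : GL D.Idx E) * ι (r : H) * (g₀ : GL D.Idx E)⁻¹)⁻¹ = _ at h1'
    have h2 : ι ((r : H) * p * (r : H)⁻¹) = ι p := by
      rw [ιmul, ιmul, ιinv]
      refine mul_left_cancel (a := (g₀ : GL D.Idx E)) (mul_right_cancel (b := (g₀ : GL D.Idx E)⁻¹) ?_)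
      rw [← h1']; group
    exact Subtype.ext (Subtype.ext h2)
  -- conjugate the second group into the torus centralising the first
  let C : Subgroup ↥G :=
    Subgroup.centralizer {d : ↥G | ∃ y ∈ Y₁, (d : GL D.Idx E) = torus D T E y}
  let S₂ : Subgroup ↥G :=
    ((R : Subgroup K).map (H.subtype.comp K.subtype)).map (MulAut.conj g₀).toMonoidHom
  have hS₂C : S₂ ≤ C := by
    rintro _ ⟨_, ⟨r, hr', rfl⟩, rfl⟩
    rw [Subgroup.mem_centralizer_iff]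
    rintro d ⟨y, ⟨-, p, hp, e⟩, hd⟩
    refine Subtype.ext ?_
    have h0 := congrArg ι (hcent r hr' p hp)
    rw [ιmul, ιmul, ιinv, mul_inv_eq_iff_eq_mul] at h0
    show (d : GL D.Idx E) * ((g₀ : GL D.Idx E) * ι (r : H) * (g₀ : GL D.Idx E)⁻¹) =
      ((g₀ : GL D.Idx E) * ι (r : H) * (g₀ : GL D.Idx E)⁻¹) * (d : GL D.Idx E)
    rw [hd, ← e]
    calc _ = (g₀ : GL D.Idx E) * (ι p * ι (r : H)) * (g₀ : GL D.Idx E)⁻¹ := by group
      _ = _ := by rw [← h0]; group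
  obtain ⟨c₁, hc₁, hg₁⟩ := htor T₂ hexp₂ (fun y hy => (hmem₂ y hy).1) hidx₂ C S₂ hS₂C
    ((R.isPGroup'.map _).map _) (by
      rintro v hv ⟨y', -, rfl⟩
      rw [Subgroup.mem_centralizer_iff]
      rintro d ⟨y, -, hd⟩
      refine Subtype.ext ?_
      show (d : GL D.Idx E) * torus D T E y' = torus D T E y' * (d : GL D.Idx E)
      rw [hd, ← map_mul, ← map_mul, mul_comm])
  set g₁ : ↥G := c₁ * g₀ with hg₁def
  have hconj₁ : ∀ p ∈ (P : Subgroup H), ∃ y ∈ T₁, (g₁ : GL D.Idx E) * ι p * (g₁ : GL D.Idx E)⁻¹ = torus D T E y := by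
    intro p hp
    obtain ⟨y, hy, e⟩ := hY₁ p hp
    refine ⟨y, hy.1, ?_⟩
    have hyG : torus D T E y ∈ G := (hmem₁ y hy.1).1
    have h : (⟨_, hyG⟩ : ↥G) * c₁ = c₁ * ⟨_, hyG⟩ := Subgroup.mem_centralizer_iff.1 hc₁ _ ⟨y, hy, rfl⟩
    have h' : torus D T E y * (c₁ : GL D.Idx E) = (c₁ : GL D.Idx E) * torus D T E y := congrArg Subtype.val h
    calc (g₁ : GL D.Idx E) * ι p * (g₁ : GL D.Idx E)⁻¹
        = (c₁ : GL D.Idx E) * ((g₀ : GL D.Idx E) * ι p * (g₀ : GL D.Idx E)⁻¹) * (c₁ : GL D.Idx E)⁻¹ := by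
          rw [hg₁def, Subgroup.coe_mul]; group
      _ = _ := by rw [e, ← h', mul_inv_cancel_right]
  have hconj₂ : ∀ r ∈ (R : Subgroup K), ∃ y ∈ T₂, (g₁ : GL D.Idx E) * ι (r : H) * (g₁ : GL D.Idx E)⁻¹ = torus D T E y := by
    intro r hr'
    obtain ⟨y, hy, e⟩ := hg₁ _ ⟨_, ⟨r, hr', rfl⟩, rfl⟩
    refine ⟨y, hy, ?_⟩
    rw [← e]
    show _ = (c₁ : GL D.Idx E) * ((g₀ : GL D.Idx E) * ι (r : H) * (g₀ : GL D.Idx E)⁻¹) * _
    rw [hg₁def, Subgroup.coe_mul]; group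
  -- one Weyl element for both
  let R' : Subgroup H := (R : Subgroup K).map K.subtype
  have hgR' : ∀ r ∈ R', (g : H) * r * (g : H)⁻¹ ∈ R' := by
    rintro _ ⟨r, hr', rfl⟩
    exact ⟨g * r * g⁻¹, (Subgroup.mem_normalizer_iff.1 hgR r).1 hr', by simp⟩
  have hconjR : ∀ r ∈ R', ∃ y ∈ T₂, (g₁ : GL D.Idx E) * ι r * (g₁ : GL D.Idx E)⁻¹ = torus D T E y := by
    rintro _ ⟨r, hr', rfl⟩; exact hconj₂ r hr'
  choose ψ₁ hψ₁T hψ₁ using hconj₁
  choose ψ₂ hψ₂T hψ₂ using hconjR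
  obtain ⟨π, hπ, hπj⟩ := weyl (g₁ * ((g : H) : ↥G) * g₁⁻¹)
    ({y | ∃ p, ∃ h : p ∈ (P : Subgroup H), y = ψ₁ p h} ∪ {y | ∃ r, ∃ h : r ∈ R', y = ψ₂ r h})
    (by
      rintro y (⟨p, hp, rfl⟩ | ⟨r, hr', rfl⟩)
      · exact (hmem₁ _ (hψ₁T p hp)).2
      · exact (hmem₂ _ (hψ₂T r hr')).2)
    (by
      rintro y (⟨p, hp, rfl⟩ | ⟨r, hr', rfl⟩)
      · refine ⟨_, Or.inl ⟨(g : H) * p * (g : H)⁻¹, (Subgroup.mem_normalizer_iff.1 hgP p).1 hp, rfl⟩, ?_⟩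
        show ((g₁ : GL D.Idx E) * ι (g : H) * (g₁ : GL D.Idx E)⁻¹) * _ * ((g₁ : GL D.Idx E) * ι (g : H) * (g₁ : GL D.Idx E)⁻¹)⁻¹ = _
        rw [← hψ₁, ← hψ₁, ιmul, ιmul, ιinv]; group
      · refine ⟨_, Or.inr ⟨(g : H) * r * (g : H)⁻¹, hgR' r hr', rfl⟩, ?_⟩
        show ((g₁ : GL D.Idx E) * ι (g : H) * (g₁ : GL D.Idx E)⁻¹) * _ * ((g₁ : GL D.Idx E) * ι (g : H) * (g₁ : GL D.Idx E)⁻¹)⁻¹ = _
        rw [← hψ₂, ← hψ₂, ιmul, ιmul, ιinv]; group)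
  have part : ∀ {ℓ k : ℕ} [Fact ℓ.Prime] (T₀ : Subgroup (Fin D.rank → Eˣ)) (B : Subgroup H)
      (ψ : ∀ v, v ∈ B → (Fin D.rank → Eˣ)), (∀ v h, ψ v h ∈ T₀) → (∀ y ∈ T₀, y ^ ℓ ^ k = 1) →
      (∀ v h, (g₁ : GL D.Idx E) * ι v * (g₁ : GL D.Idx E)⁻¹ = torus D T E (ψ v h)) →
      ∀ (hgB : ∀ v ∈ B, (g : H) * v * (g : H)⁻¹ ∈ B) (hπB : ∀ v h, permAct hc π (ψ v h) = ψ _ (hgB v h)),
      ¬ ℓ ∣ orderOf π → ∀ (c : A) (v₀ : H) (_ : v₀ ∈ B) (u : ℕ), orderOf c = ℓ → f v₀ = c →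
      (∀ v ∈ B, f v ∈ Subgroup.zpowers c) → t * c * t⁻¹ = c ^ u →
      ∃ y ∈ T₀, y ^ ℓ = 1 ∧ y ≠ 1 ∧ permAct hc π y = y ^ u := by
    intro ℓ k hℓ T₀ B ψ hψT he hψ hgB hπB hπℓ c v₀ hv₀ u hco hfv hfB htc
    let Ψ : ↥B →* (Fin D.rank → Eˣ) := MonoidHom.mk' (fun v => ψ v v.2) fun v w => torus_injective hc (by
      rw [map_mul, ← hψ, ← hψ, ← hψ]
      show _ * ι ((v : H) * (w : H)) * _ = _
      rw [ιmul]; group)
    have hΨ : Function.Injective Ψ := fun v w h => by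
      have h1 := (hψ v v.2).trans ((congrArg (torus D T E) (h : ψ v v.2 = ψ w w.2)).trans (hψ w w.2).symm)
      exact Subtype.ext (Subtype.ext (Subtype.ext (mul_left_cancel (mul_right_cancel h1))))
    let e := MonoidHom.ofInjective hΨ
    have hst : ∀ y ∈ Ψ.range, permAct hc π y ∈ Ψ.range := by
      rintro _ ⟨v, rfl⟩; exact ⟨⟨_, hgB v v.2⟩, (hπB v v.2).symm⟩
    obtain ⟨y, hy, h1, h2, h3⟩ := eigen_core hc hπ hπℓ Ψ.range (by rintro _ ⟨v, rfl⟩; exact he _ (hψT _ _))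
      hst ((f.comp B.subtype).comp e.symm.toMonoidHom) (u := u) (by
        rintro ⟨_, v, rfl⟩
        obtain ⟨i, hi⟩ := Subgroup.mem_zpowers_iff.1 (hfB v v.2)
        show f (e.symm _ : ↥B) = f (e.symm _ : ↥B) ^ u
        have e1 : e.symm ⟨permAct hc π (Ψ v), hst _ ⟨v, rfl⟩⟩ = ⟨_, hgB v v.2⟩ :=
          (MulEquiv.symm_apply_eq e).2 (Subtype.ext (hπB v v.2))
        have e2 : e.symm ⟨Ψ v, v, rfl⟩ = v := (MulEquiv.symm_apply_eq e).2 (Subtype.ext rfl)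
        rw [e1, e2]
        show f ((g : H) * (v : H) * (g : H)⁻¹) = _
        rw [map_mul, map_mul, map_inv, hgt', ← hi, ← conj_zpow, htc, ← zpow_natCast, ← zpow_mul, mul_comm, zpow_mul,
          zpow_natCast])
      (e ⟨v₀, hv₀⟩) (by
        show orderOf (f ((e.symm (e ⟨v₀, hv₀⟩) : ↥B) : H)) = ℓ
        rw [MulEquiv.symm_apply_apply, hfv, hco])
    obtain ⟨v, rfl⟩ := hy
    exact ⟨_, hψT _ _, h1, h2, h3⟩
  refine ⟨π, hπ, part T₁ (P : Subgroup H) ψ₁ hψ₁T hexp₁ hψ₁ (fun p hp => (Subgroup.mem_normalizer_iff.1 hgP p).1 hp)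
    ?_ (hW π hπ).1 a x hx u₁ ha hxa ?_ hta, part T₂ R' ψ₂ hψ₂T hexp₂ hψ₂ hgR' ?_ (hW π hπ).2 b (z : H) ⟨z, hz, rfl⟩
      u₂ hb hzb' ?_ htb⟩
  · intro p hp
    refine torus_injective hc ?_
    have h := (hπj 1 _ (Or.inl ⟨p, hp, rfl⟩)).2
    rw [pow_one, pow_one] at h
    rw [← h, ← hψ₁, ← hψ₁]
    show ((g₁ : GL D.Idx E) * ι (g : H) * (g₁ : GL D.Idx E)⁻¹) * _ * ((g₁ : GL D.Idx E) * ι (g : H) * (g₁ : GL D.Idx E)⁻¹)⁻¹ = _
    rw [ιmul, ιmul, ιinv]; group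
  · intro p hp
    have : f p ∈ (P : Subgroup H).map f := ⟨p, hp, rfl⟩
    rwa [hPQ] at this
  · intro r hr'
    refine torus_injective hc ?_
    have h := (hπj 1 _ (Or.inr ⟨r, hr', rfl⟩)).2
    rw [pow_one, pow_one] at h
    rw [← h, ← hψ₂, ← hψ₂]
    show ((g₁ : GL D.Idx E) * ι (g : H) * (g₁ : GL D.Idx E)⁻¹) * _ * ((g₁ : GL D.Idx E) * ι (g : H) * (g₁ : GL D.Idx E)⁻¹)⁻¹ = _
    rw [ιmul, ιmul, ιinv]; group
  · rintro _ ⟨r, hr', rfl⟩
    have h : fK r ∈ (R : Subgroup K).map fK := ⟨r, hr', rfl⟩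
    rw [hRQ] at h
    obtain ⟨i, hi⟩ := Subgroup.mem_zpowers_iff.1 h
    exact Subgroup.mem_zpowers_iff.2 ⟨i, congrArg Subtype.val hi⟩

end

/-- A finite field has an extension of order congruent to one modulo two given primes. -/
theorem exists_split_ext₂ {hD : ChevalleyDatum} {hT : Tabs} (hc : Checked hD hT) {F : Type u} [Field F] [Fintype F]
    {p : ℕ} [Fact p.Prime] [CharP F p] {ℓ₁ ℓ₂ : ℕ} [Fact ℓ₁.Prime] [Fact ℓ₂.Prime] (h₁ : p ≠ ℓ₁) (h₂ : p ≠ ℓ₂)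
    (hdet₁ : ∃ (N : Fin hD.rank → Fin hD.rank → ℤ) (dd : ℕ), ¬ ℓ₁ ∣ dd ∧
      ∀ i j, ∑ a, N i a * cm hD a j = if i = j then (dd : ℤ) else 0)
    (hdet₂ : ∃ (N : Fin hD.rank → Fin hD.rank → ℤ) (dd : ℕ), ¬ ℓ₂ ∣ dd ∧
      ∀ i j, ∑ a, N i a * cm hD a j = if i = j then (dd : ℤ) else 0)
    (hw₁ : ∀ J : List (Fin hD.rank), (∀ i, i ∈ J) → ¬ ℓ₁ ∣ wsum hc J 1)
    (hw₂ : ∀ J : List (Fin hD.rank), (∀ i, i ∈ J) → ¬ ℓ₂ ∣ wsum hc J 1) :
    ∃ (E : Type) (_ : Field E) (_ : Fintype E) (_ : F →+* E) (k₁ k₂ : ℕ), Split hc E ℓ₁ k₁ ∧ Split hc E ℓ₂ k₂ := by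
  have hr₁ := (Fact.out : ℓ₁.Prime)
  have hr₂ := (Fact.out : ℓ₂.Prime)
  have hn : (ℓ₁ - 1) * (ℓ₂ - 1) ≠ 0 := by
    have := hr₁.two_le; have := hr₂.two_le
    exact Nat.mul_ne_zero (by omega) (by omega)
  haveI : NeZero ((ℓ₁ - 1) * (ℓ₂ - 1)) := ⟨hn⟩
  let E := FiniteField.Extension F p ((ℓ₁ - 1) * (ℓ₂ - 1))
  letI : Fintype E := Fintype.ofFinite E
  obtain ⟨f, -, hf⟩ := FiniteField.card F p
  set q := Fintype.card F with hq
  have hE : Fintype.card E = q ^ ((ℓ₁ - 1) * (ℓ₂ - 1)) := by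
    rw [← Nat.card_eq_fintype_card, FiniteField.natCard_extension, Nat.card_eq_fintype_card]
  set n := q ^ ((ℓ₁ - 1) * (ℓ₂ - 1)) with hn_def
  have hn1 : 1 < n := Nat.one_lt_pow hn (hq ▸ Fintype.one_lt_card)
  have key : ∀ {ℓ : ℕ} [Fact ℓ.Prime], p ≠ ℓ → (ℓ - 1) ∣ (ℓ₁ - 1) * (ℓ₂ - 1) → ℓ ∣ n - 1 := by
    intro ℓ hℓ hne hdiv
    have hq0 : (q : ZMod ℓ) ≠ 0 := fun h => by
      rw [ZMod.natCast_eq_zero_iff, hf] at h
      exact hne ((Nat.prime_dvd_prime_iff_eq Fact.out Fact.out).1 ((Fact.out : ℓ.Prime).dvd_of_dvd_pow h)).symm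
    obtain ⟨d, hd⟩ := hdiv
    rw [← ZMod.natCast_eq_zero_iff, Nat.cast_sub hn1.le, hn_def, Nat.cast_pow, hd, pow_mul,
      ZMod.pow_card_sub_one_eq_one hq0, one_pow, Nat.cast_one, sub_self]
  refine ⟨E, inferInstance, inferInstance, algebraMap F E, (n - 1).factorization ℓ₁, (n - 1).factorization ℓ₂,
    ⟨(hr₁.dvd_iff_one_le_factorization (by omega)).1 (key h₁ (dvd_mul_right _ _)),
      ⟨(n - 1) / ℓ₁ ^ (n - 1).factorization ℓ₁, ?_, Nat.not_dvd_ordCompl hr₁ (by omega)⟩, hdet₁, hw₁⟩,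
    ⟨(hr₂.dvd_iff_one_le_factorization (by omega)).1 (key h₂ (dvd_mul_left _ _)),
      ⟨(n - 1) / ℓ₂ ^ (n - 1).factorization ℓ₂, ?_, Nat.not_dvd_ordCompl hr₂ (by omega)⟩, hdet₂, hw₂⟩⟩
  · rw [hE, Nat.ordProj_mul_ordCompl_eq_self]
  · rw [hE, Nat.ordProj_mul_ordCompl_eq_self]

end CfsgLib.AltSection
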