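import Cfsg.Agent.Lib.AltSection.Eigen

/-!
# Exponents of a torus element of prime order and the Weyl group

A torus element of order `ℓ` has exponents modulo `ℓ`; if a Weyl element maps it to its `u`-th power,
the family of values of the roots on the exponents is permuted by multiplication by `u`.
-/

set_option autoImplicit false
set_option linter.unusedSectionVars false

namespace CfsgLib.AltSection

open Cfsg.Lie CfsgLib.Chev CfsgLib.ChevCent

variable {D : ChevalleyDatum} {T : Tabs}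

/-- The value of a root on exponents. -/
noncomputable def rootForm (D : ChevalleyDatum) (T : Tabs) {ℓ : ℕ} (e : Fin D.rank → ZMod ℓ) (r : Fin D.nroots) : ZMod ℓ :=
  ∑ j, (rv D T r.val j : ZMod ℓ) * e j

/-- The power sums of the root values, twisted by `u`, vanish. -/
noncomputable def sumsZero (D : ChevalleyDatum) (T : Tabs) {ℓ : ℕ} (u : ℕ) (degs : List ℕ) (e : Fin D.rank → ZMod ℓ) : Bool :=
  degs.all fun d => decide (((u : ZMod ℓ) ^ d - 1) * ∑ r, rootForm D T e r ^ d = 0)

theorem zpow_intCast_eq {M : Type*} [Group M] {ℓ : ℕ} [NeZero ℓ] {η : M} (hη : η ^ ℓ = 1) (z : ℤ) :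
    η ^ z = η ^ (z : ZMod ℓ).val := by
  rw [← zpow_natCast, ZMod.val_intCast]
  exact zpow_eq_zpow_emod' z hη

variable {E : Type*} [Field E]

theorem exists_exponents {ℓ : ℕ} [Fact ℓ.Prime] {y : Fin D.rank → Eˣ} (hy : y ^ ℓ = 1) (hy1 : y ≠ 1) :
    ∃ (η : Eˣ) (e : Fin D.rank → ZMod ℓ), orderOf η = ℓ ∧ e ≠ 0 ∧ ∀ i, y i = η ^ (e i).val := by
  obtain ⟨i, hi⟩ : ∃ i, y i ≠ 1 := by
    by_contra h
    exact hy1 (funext fun i => by_contra fun hne => h ⟨i, hne⟩)
  have hη : orderOf (y i) = ℓ := orderOf_eq_prime (congrFun hy i) hi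
  have hp : IsPrimitiveRoot (y i : E) ℓ := (IsPrimitiveRoot.coe_units_iff).2 (hη ▸ IsPrimitiveRoot.orderOf (y i))
  have hr := (Fact.out : ℓ.Prime)
  have key : ∀ j, ∃ k < ℓ, (y i : E) ^ k = (y j : E) := fun j =>
    hp.eq_pow_of_pow_eq_one (by rw [← Units.val_pow_eq_pow_val]; exact congrArg Units.val (congrFun hy j))
  choose k hk hke using key
  refine ⟨y i, fun j => (k j : ZMod ℓ), hη, fun h => hi ?_, fun j => Units.ext ?_⟩
  · have h1 : (k i : ZMod ℓ) = 0 := congrFun h i
    rw [ZMod.natCast_eq_zero_iff] at h1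
    have h2 : k i = 0 := Nat.eq_zero_of_dvd_of_lt h1 (hk i)
    exact Units.ext (by rw [Units.val_one, ← hke i, h2, pow_zero])
  · rw [Units.val_pow_eq_pow_val, ZMod.val_natCast_of_lt (hk j), hke]

variable (hc : Checked D T)
include hc

theorem chi_exponents {ℓ : ℕ} [Fact ℓ.Prime] {η : Eˣ} (hη : orderOf η = ℓ) {y : Fin D.rank → Eˣ}
    {e : Fin D.rank → ZMod ℓ} (he : ∀ i, y i = η ^ (e i).val) (r : Fin D.nroots) :
    chi y (rv D T r.val) = η ^ (rootForm D T e r).val := by
  have h1 : chi y (rv D T r.val) = η ^ (∑ j, rv D T r.val j * ((e j).val : ℤ)) := by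
    show ∏ j, y j ^ rv D T r.val j = _
    rw [show η ^ (∑ j, rv D T r.val j * ((e j).val : ℤ)) = ∏ j, η ^ (rv D T r.val j * ((e j).val : ℤ)) by
      induction (Finset.univ : Finset (Fin D.rank)) using Finset.cons_induction with
      | empty => simp
      | cons a s ha ih => rw [Finset.sum_cons, Finset.prod_cons, zpow_add, ih]]
    refine Finset.prod_congr rfl fun j _ => ?_
    rw [he j, mul_comm, zpow_mul, zpow_natCast]
  rw [h1, zpow_intCast_eq (hη ▸ pow_orderOf_eq_one η)]
  congr 2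
  rw [rootForm, Int.cast_sum]
  refine Finset.sum_congr rfl fun j _ => ?_
  rw [Int.cast_mul, Int.cast_natCast, ZMod.natCast_rightInverse]

/-- A Weyl element mapping an element of order `ℓ` to its `u`-th power. -/
theorem sumsZero_of_eigen {ℓ : ℕ} [Fact ℓ.Prime] {π : Equiv.Perm (Fin D.nroots)} (hπ : π ∈ weylGrp hc)
    {η : Eˣ} (hη : orderOf η = ℓ) {y : Fin D.rank → Eˣ} {e : Fin D.rank → ZMod ℓ}
    (he : ∀ i, y i = η ^ (e i).val) {u : ℕ} (hw : permAct hc π y = y ^ u) (degs : List ℕ) :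
    sumsZero D T u degs e = true := by
  have h1 : ∀ r, rootForm D T e (π r) = (u : ZMod ℓ) * rootForm D T e r := fun r => by
    have h := chi_permAct hc hπ y r
    rw [hw, chi_pow', chi_exponents hc hη he, chi_exponents hc hη he, ← pow_mul] at h
    have h2 := pow_eq_pow_iff_modEq.1 h
    rw [hη, ← ZMod.natCast_eq_natCast_iff] at h2
    push_cast at h2
    rw [ZMod.natCast_rightInverse, ZMod.natCast_rightInverse] at h2
    rw [← h2, mul_comm]
  rw [sumsZero, List.all_eq_true]
  intro d _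
  rw [decide_eq_true_eq, sub_mul, one_mul, sub_eq_zero, Finset.mul_sum]
  rw [← Equiv.sum_comp π (fun r => rootForm D T e r ^ d)]
  exact Finset.sum_congr rfl fun r _ => by rw [h1, mul_pow]

end CfsgLib.AltSection

namespace CfsgLib.AltSection

open Cfsg.Lie CfsgLib.Chev CfsgLib.ChevCent

/-- Exponents of the torus element with given parameters. -/
noncomputable def parExp (D : ChevalleyDatum) {ℓ : ℕ} (a : Fin D.rank → ZMod ℓ) : Fin D.rank → ZMod ℓ :=
  fun j => ∑ i, (cm D i j : ZMod ℓ) * a i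

variable {D : ChevalleyDatum} {T : Tabs} {E : Type*} [Field E]

theorem hPar_exponents {ℓ : ℕ} [Fact ℓ.Prime] {η : Eˣ} (hη : orderOf η = ℓ) {c : Fin D.rank → Eˣ}
    {a : Fin D.rank → ZMod ℓ} (ha : ∀ i, c i = η ^ (a i).val) (j : Fin D.rank) :
    hPar D E c j = η ^ (parExp D a j).val := by
  have h1 : hPar D E c j = η ^ (∑ i, cm D i j * ((a i).val : ℤ)) := by
    show ∏ i, c i ^ cm D i j = _
    rw [show η ^ (∑ i, cm D i j * ((a i).val : ℤ)) = ∏ i, η ^ (cm D i j * ((a i).val : ℤ)) by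
      induction (Finset.univ : Finset (Fin D.rank)) using Finset.cons_induction with
      | empty => simp
      | cons b s hb ih => rw [Finset.sum_cons, Finset.prod_cons, zpow_add, ih]]
    refine Finset.prod_congr rfl fun i _ => ?_
    rw [ha i, mul_comm, zpow_mul, zpow_natCast]
  rw [h1, zpow_intCast_eq (hη ▸ pow_orderOf_eq_one η)]
  congr 2
  rw [parExp, Int.cast_sum]
  refine Finset.sum_congr rfl fun i _ => ?_
  rw [Int.cast_mul, Int.cast_natCast, ZMod.natCast_rightInverse]

end CfsgLib.AltSection
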