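import Cfsg.Agent.Lib.ChevCent.SylowTorus
import Cfsg.Agent.Lib.AltSection.Lift

/-!
# Sections of split Chevalley groups and the Weyl group

Over a field with `q ≡ 1 (mod ℓ)`, `ℓ` prime to the order of the Weyl group, the subgroups of `ℓ`-power
order are conjugate into the split torus, and an element normalising a set of torus elements acts on
it through the Weyl group.  Hence a cyclic Sylow `ℓ`-subgroup of a section has no automizer of order
prime to all orders of Weyl elements.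
-/

set_option autoImplicit false
set_option linter.unusedSectionVars false

namespace CfsgLib.AltSection

open Cfsg.Lie CfsgLib.Chev CfsgLib.ChevField CfsgLib.ChevCent

variable {D : ChevalleyDatum} {T : Tabs} {E : Type*} [Field E]

section

variable (hc : Checked D T) (hcomm : CommOne D T)
include hc hcomm

/-- An element of the group conjugating torus elements to torus elements does so by a Weyl element. -/
theorem reflChars_of_conj (A : Set (Fin D.rank → Eˣ)) (φ : (Fin D.rank → Eˣ) → (Fin D.rank → Eˣ))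
    (hAd : ∀ y ∈ A, torus D T E y ∈ D.diagonalSubgroup E)
    (hAd' : ∀ y ∈ A, torus D T E (φ y) ∈ D.diagonalSubgroup E) {c : GL D.Idx E} (hcG : c ∈ D.group E)
    (hcA : ∀ y ∈ A, c * torus D T E y * c⁻¹ = torus D T E (φ y)) :
    ∃ L : List (Fin D.rank), ∀ y ∈ A, reflChars L y = φ y := by
  obtain ⟨L, u, h, v, hu, hh, hv, hceq⟩ := ChevField.exists_bruhat hc hcomm hcG
  obtain ⟨hp, rfl⟩ := (mem_diagonal hc).1 hh
  refine ⟨L, fun y hy => ?_⟩
  set n := nProd D E L with hn
  set H := torus D T E (hPar D E hp) with hH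
  set ty := torus D T E y with hty
  set tq := torus D T E (φ y) with htq
  set tw := torus D T E (reflChars L y) with htw
  have hdy : ty ∈ D.diagonalSubgroup E := hAd y hy
  have hdq : tq ∈ D.diagonalSubgroup E := hAd' y hy
  have hcon : n * ty * n⁻¹ = tw := nProd_conj_torus hc L y
  have hdw : tw ∈ D.diagonalSubgroup E := hcon ▸ nProd_conj_diagonal hc L hdy
  have h2 : u * H * n * v * ty = tq * (u * H * n * v) := by
    rw [← hceq]
    calc c * ty = c * ty * c⁻¹ * c := by group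
      _ = tq * c := by rw [hcA y hy]
  have h1 : u * (H * tw) * n * (ty⁻¹ * v * ty) = tq * u * tq⁻¹ * (tq * H) * n * v := by
    calc u * (H * tw) * n * (ty⁻¹ * v * ty) = u * H * n * v * ty := by rw [← hcon]; group
      _ = _ := by rw [h2]; group
  obtain ⟨-, e2, -⟩ := ChevField.bruhat_unique hc hcomm hu (diag_conj_mem hc _ hdq hu)
    (mul_mem hh hdw) (mul_mem hdq hh) (diag_conj_mem' hc _ hdy hv) hv h1
  refine torus_injective hc ?_
  show tw = tq
  have hcm : tq * H = H * tq := by rw [htq, hH, ← map_mul, ← map_mul, mul_comm]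
  rw [hcm] at e2
  exact mul_left_cancel e2

variable [Fintype E]

/-- The arithmetic hypotheses on the prime and the field. -/
structure Split (hc : Checked D T) (E : Type*) [Field E] [Fintype E] (ℓ k : ℕ) : Prop where
  pos : 1 ≤ k
  card : ∃ e, Fintype.card E - 1 = ℓ ^ k * e ∧ ¬ ℓ ∣ e
  det : ∃ (N : Fin D.rank → Fin D.rank → ℤ) (dd : ℕ), ¬ ℓ ∣ dd ∧
    ∀ i j, ∑ a, N i a * cm D a j = if i = j then (dd : ℤ) else 0
  weyl : ∀ J : List (Fin D.rank), (∀ i, i ∈ J) → ¬ ℓ ∣ wsum hc J 1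

variable {ℓ k : ℕ} [Fact ℓ.Prime] (hS : Split hc E ℓ k)
include hS

theorem torus_diag {x : Fin D.rank → Eˣ} (hx : x ^ ℓ ^ k = 1) :
    torus D T E x ∈ D.diagonalSubgroup E := by
  obtain ⟨N, dd, hdd, hN⟩ := hS.det
  have hr := (Fact.out : ℓ.Prime)
  have hcop : Nat.Coprime dd (ℓ ^ k) := ((hr.coprime_iff_not_dvd.2 hdd).symm).pow_right k
  obtain ⟨N', -, hN'⟩ := Nat.exists_mul_mod_eq_one_of_coprime hcop
    (Nat.one_lt_pow (by have := hS.pos; omega) hr.one_lt)
  refine (mem_diagonal hc).2 ⟨(fun i => ∏ l, x l ^ N l i) ^ N', ?_⟩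
  rw [map_pow, hPar_pow_of_adj hc hN, ← pow_mul, pow_eq_pow_mod _ hx, hN', pow_one]

/-- Subgroups of `ℓ`-power order are conjugate into the torus. -/
theorem exists_conj_torus (P : Subgroup ↥(D.group E)) (hP : IsPGroup ℓ P) :
    ∃ g ∈ D.group E, ∀ x ∈ P, ∃ y : Fin D.rank → Eˣ, y ^ ℓ ^ k = 1 ∧
      g * (x : GL D.Idx E) * g⁻¹ = torus D T E y := by
  classical
  have hr := (Fact.out : ℓ.Prime)
  obtain ⟨e, hm, he⟩ := hS.card
  set m := ℓ ^ k with hm_def
  let S : Subgroup (Fin D.rank → Eˣ) := (powMonoidHom m).ker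
  let φ : ↥S →* ↥(D.group E) :=
    ((torus D T E).comp S.subtype).codRestrict _ fun x => diagonal_le_group hc (torus_diag hc hcomm hS x.2)
  have hφ : Function.Injective φ := fun x y h => Subtype.ext (torus_injective hc (congrArg Subtype.val h :))
  have hq1 : 1 < Fintype.card E := Fintype.one_lt_card
  have hcardU : Nat.card Eˣ = m * e := by
    rw [Nat.card_units, Nat.card_eq_fintype_card, hm]
  have hcardS : Nat.card ↥S = m ^ D.rank := by
    let M0 : Subgroup Eˣ := (powMonoidHom m).ker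
    let eqv : ↥S ≃ (Fin D.rank → ↥M0) :=
      { toFun := fun x i => ⟨x.1 i, congrFun x.2 i⟩
        invFun := fun f => ⟨fun i => (f i).1, funext fun i => (f i).2⟩
        left_inv := fun _ => rfl
        right_inv := fun _ => rfl }
    rw [Nat.card_congr eqv, Nat.card_fun, Nat.card_fin]
    congr 1
    rw [IsCyclic.card_powMonoidHom_ker, hcardU, Nat.gcd_comm, Nat.gcd_eq_left (dvd_mul_right m e)]
  have hT : IsPGroup ℓ φ.range := fun x => by
    obtain ⟨y, hy⟩ := x.2
    refine ⟨k, Subtype.ext ?_⟩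
    rw [SubmonoidClass.coe_pow, ← hy, ← map_pow, ← hm_def,
      show y ^ m = 1 from Subtype.ext y.2, map_one, OneMemClass.coe_one]
  have hJ : ∀ i, i ∈ List.finRange D.rank := List.mem_finRange
  have hTi : ¬ ℓ ∣ φ.range.index := by
    have hcG := card_group hc (F := E) hcomm hJ
    have hH : Nat.card ↥(D.diagonalSubgroup E) ∣ (m * e) ^ D.rank := by
      rw [diagonalSubgroup_eq hc, ← hcardU]
      refine (Subgroup.card_range_dvd _).trans ?_
      rw [Nat.card_fun, Nat.card_fin]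
    have h1 := Subgroup.card_mul_index φ.range
    rw [Nat.card_congr (MonoidHom.ofInjective hφ).symm.toEquiv, hcardS, hcG] at h1
    set Q := Fintype.card E with hQ
    have h2 : φ.range.index ∣ Q ^ (D.nroots / 2) * e ^ D.rank * wsum hc (List.finRange D.rank) Q := by
      refine (Nat.mul_dvd_mul_iff_left (pow_pos (pow_pos hr.pos k) D.rank)).1 ?_
      rw [← hm_def, h1]
      refine (Nat.mul_dvd_mul (Nat.mul_dvd_mul_left _ hH) dvd_rfl).trans (dvd_of_eq ?_)
      rw [mul_pow]; ring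
    have hQ1 : ((Q : ℕ) : ZMod ℓ) = 1 := by
      have h3 : Q = ℓ * (ℓ ^ (k - 1) * e) + 1 := by
        rw [← mul_assoc, ← pow_succ', show k - 1 + 1 = k by have := hS.pos; omega, ← hm_def, ← hm]; omega
      rw [h3]; simp
    intro h
    rcases hr.dvd_mul.1 (h.trans h2) with h | h
    · rcases hr.dvd_mul.1 h with h | h
      · have h4 : ((Q : ℕ) : ZMod ℓ) = 0 := (ZMod.natCast_eq_zero_iff _ ℓ).2 (hr.dvd_of_dvd_pow h)
        rw [hQ1] at h4
        exact one_ne_zero h4
      · exact he (hr.dvd_of_dvd_pow h)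
    · refine hS.weyl _ hJ ((ZMod.natCast_eq_zero_iff _ ℓ).1 ?_)
      have h4 : ((wsum hc (List.finRange D.rank) Q : ℕ) : ZMod ℓ) =
          ((wsum hc (List.finRange D.rank) 1 : ℕ) : ZMod ℓ) := by
        simp only [wsum, Nat.cast_sum, Nat.cast_pow, hQ1, Nat.cast_one]
      rw [← h4, ZMod.natCast_eq_zero_iff]; exact h
  let Tr := hT.toSylow hTi
  obtain ⟨Q, hQ⟩ := hP.exists_le_sylow
  obtain ⟨g₀, hg₀⟩ := MulAction.exists_smul_eq ↥(D.group E) Q Tr
  refine ⟨g₀, g₀.2, fun x hx => ?_⟩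
  have h1 : g₀ * x * g₀⁻¹ ∈ (Tr : Subgroup ↥(D.group E)) := by
    rw [← hg₀, Sylow.coe_subgroup_smul]
    exact Subgroup.smul_mem_pointwise_smul _ (MulAut.conj g₀) _ (hQ hx)
  obtain ⟨y, hy⟩ := h1
  exact ⟨y.1, y.2, (congrArg Subtype.val hy).symm⟩

/-- No section with a cyclic Sylow subgroup of order `ℓ` and an automizer avoiding the Weyl group. -/
theorem no_section {A : Type*} [Group A] [Finite A] {a t : A} {u : ℕ} (ha : orderOf a = ℓ)
    (hA : ¬ ℓ ^ 2 ∣ Nat.card A) (ht : t * a * t⁻¹ = a ^ u)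
    (hW : ∀ π ∈ weylGrp hc, ¬ u ^ orderOf π ≡ 1 [MOD ℓ])
    (H : Subgroup ↥(D.group E)) (f : H →* A) (hf : Function.Surjective f) : False := by
  classical
  haveI : Finite ↥(D.group E) := Finite.of_injective _ Subtype.val_injective
  have hr := (Fact.out : ℓ.Prime)
  have hℓA : (Nat.card A).factorization ℓ = 1 := by
    have h1 : ℓ ∣ Nat.card A := ha ▸ orderOf_dvd_natCard a
    have h0 : Nat.card A ≠ 0 := Nat.card_pos.ne'
    have g1 := (hr.dvd_iff_one_le_factorization h0).1 h1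
    have g2 : ¬ 2 ≤ (Nat.card A).factorization ℓ := fun h => hA ((hr.pow_dvd_iff_le_factorization h0).2 h)
    omega
  let Q : Sylow ℓ A := Sylow.ofCard (Subgroup.zpowers a) (by rw [Nat.card_zpowers, ha, hℓA, pow_one])
  have htn : t ∈ Subgroup.normalizer ((Q : Subgroup A) : Set A) := by
    haveI : Finite ↥(Subgroup.zpowers a) := inferInstance
    show t ∈ Subgroup.normalizer ((Subgroup.zpowers a : Subgroup A) : Set A)
    refine Subgroup.mem_normalizer_fintype fun x hx => ?_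
    obtain ⟨i, rfl⟩ := Subgroup.mem_zpowers_iff.1 hx
    rw [← conj_zpow, ht]
    exact Subgroup.zpow_mem _ (Subgroup.npow_mem_zpowers a u) i
  obtain ⟨P, hPQ, hlift⟩ := exists_lift_sylow hf Q
  obtain ⟨g, hg, hgt⟩ := hlift t htn
  obtain ⟨x, hx, hxa⟩ : a ∈ (P : Subgroup H).map f := hPQ ▸ Subgroup.mem_zpowers a
  obtain ⟨g₀, hg₀, hconj⟩ := exists_conj_torus hc hcomm hS ((P : Subgroup H).map H.subtype)
    (P.isPGroup'.map H.subtype)
  set ι : H → GL D.Idx E := fun z => ((z : ↥(D.group E)) : GL D.Idx E) with hι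
  have ιmul : ∀ z w, ι (z * w) = ι z * ι w := fun _ _ => rfl
  have ιinv : ∀ z, ι z⁻¹ = (ι z)⁻¹ := fun _ => rfl
  let Y : Set (Fin D.rank → Eˣ) := {y | y ^ ℓ ^ k = 1 ∧ ∃ p ∈ (P : Subgroup H),
    g₀ * ι p * g₀⁻¹ = torus D T E y}
  have hY : ∀ p ∈ (P : Subgroup H), ∃ y ∈ Y, g₀ * ι p * g₀⁻¹ = torus D T E y := by
    intro p hp
    obtain ⟨y, hy, e⟩ := hconj _ ⟨p, hp, rfl⟩
    exact ⟨y, ⟨hy, p, hp, e⟩, e⟩
  set c := g₀ * ι g * g₀⁻¹ with hcdef
  have hstep : ∀ y ∈ Y, ∃ y' ∈ Y, c * torus D T E y * c⁻¹ = torus D T E y' := by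
    rintro y ⟨-, p, hp, e⟩
    obtain ⟨y', hy', e'⟩ := hY (g * p * g⁻¹) ((Subgroup.mem_normalizer_iff.1 hg p).1 hp)
    refine ⟨y', hy', ?_⟩
    rw [← e', ← e, hcdef, ιmul, ιmul, ιinv]
    group
  choose φ hφ hφc using hstep
  let φ' : (Fin D.rank → Eˣ) → (Fin D.rank → Eˣ) := fun y => if hy : y ∈ Y then φ y hy else 1
  obtain ⟨L, hL⟩ := reflChars_of_conj hc hcomm Y φ'
    (fun y hy => torus_diag hc hcomm hS hy.1)
    (fun y hy => by simp only [φ', dif_pos hy]; exact torus_diag hc hcomm hS (hφ y hy).1)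
    (mul_mem (mul_mem hg₀ (SetLike.coe_mem (g : ↥(D.group E)))) (inv_mem hg₀))
    (fun y hy => by simp only [φ', dif_pos hy]; exact hφc y hy)
  set π := permOf hc L.reverse with hπ
  have hπW : π ∈ weylGrp hc := ⟨_, rfl⟩
  have hπact : ∀ χ : Fin D.rank → Eˣ, permAct hc π χ = reflChars L χ := fun χ => by
    rw [hπ, permAct_permOf, List.reverse_reverse]
  -- powers of the Weyl element follow powers of the conjugation
  have hpow : ∀ (j : ℕ), ∀ y ∈ Y, permAct hc (π ^ j) y ∈ Y ∧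
      c ^ j * torus D T E y * (c ^ j)⁻¹ = torus D T E (permAct hc (π ^ j) y) := by
    intro j
    induction j with
    | zero => intro y hy; simp [permAct_one, hy]
    | succ j ih =>
      intro y hy
      obtain ⟨h1, h2⟩ := ih y hy
      rw [pow_succ π, permAct_mul hc (pow_mem hπW j), hπact, hL _ h1]
      simp only [φ', dif_pos h1]
      refine ⟨hφ _ h1, ?_⟩
      rw [← hφc _ h1, ← h2, pow_succ' c]
      group
  set o := orderOf π
  obtain ⟨y, hy, hxy⟩ := hY x hx
  have h1 := (hpow o y hy).2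
  rw [pow_orderOf_eq_one, permAct_one, ← hxy, hcdef, conj_pow] at h1
  have h2 : ι (g ^ o * x * (g ^ o)⁻¹) = ι x := by
    have e : ∀ n : ℕ, ι (g ^ n) = ι g ^ n := fun n => rfl
    rw [ιmul, ιmul, ιinv, e]
    have h3 : g₀ * (ι g ^ o * ι x * (ι g ^ o)⁻¹) * g₀⁻¹ = g₀ * ι x * g₀⁻¹ := by
      rw [← h1]; group
    exact mul_left_cancel (mul_right_cancel h3)
  have h3 : g ^ o * x * (g ^ o)⁻¹ = x := Subtype.ext (Subtype.ext h2)
  have h4 : ∀ j : ℕ, t ^ j * a * (t ^ j)⁻¹ = a ^ u ^ j := by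
    intro j
    induction j with
    | zero => simp
    | succ j ih =>
      rw [pow_succ' t, mul_inv_rev, show t * t ^ j * a * ((t ^ j)⁻¹ * t⁻¹) = t * (t ^ j * a * (t ^ j)⁻¹) * t⁻¹ by group,
        ih, ← conj_pow, ht, ← pow_mul, pow_succ']
  have h5 := congrArg f h3
  rw [map_mul, map_mul, map_inv, map_pow, hgt, hxa, h4] at h5
  refine hW π hπW ?_
  have := pow_eq_pow_iff_modEq.1 (h5.trans (pow_one a).symm)
  rwa [ha] at this

end

end CfsgLib.AltSection
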