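import Cfsg.Agent.Lib.ChevCent.WeylAct

/-!
# Search trees listing a Weyl group by the images of the fundamental roots
-/

set_option autoImplicit false
set_option linter.unusedSectionVars false

namespace CfsgLib.AltSection

/-- a search tree of Weyl elements: key, a flag and a packed matrix -/
inductive WTree
  | nil
  | node (l : WTree) (key : ℕ) (flag : Bool) (mat : ℕ) (r : WTree)

/-- lookup -/
def WTree.find : WTree → ℕ → Option (Bool × ℕ)
  | .nil, _ => none
  | .node l k f m r, x => if x < k then l.find x else if k < x then r.find x else some (f, m)

/-- a check on all nodes -/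
def WTree.all : WTree → (ℕ → Bool → ℕ → Bool) → Bool
  | .nil, _ => true
  | .node l k f m r, P => l.all P && P k f m && r.all P

theorem WTree.of_find {t : WTree} {P : ℕ → Bool → ℕ → Bool} (h : t.all P = true) {x : ℕ} {f : Bool} {m : ℕ}
    (hf : t.find x = some (f, m)) : P x f m = true := by
  induction t with
  | nil => simp [WTree.find] at hf
  | node l k g n r ihl ihr =>
    simp only [WTree.all, Bool.and_eq_true] at h
    rw [WTree.find] at hf
    split at hf
    · exact ihl h.1.1 hf
    · split at hf
      · exact ihr h.2 hf
      · have hx : x = k := by omega
        simp only [Option.some.injEq, Prod.mk.injEq] at hf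
        rw [hx, ← hf.1, ← hf.2]; exact h.1.2

end CfsgLib.AltSection
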